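import Groth.Agent.H10Coh.FlatBC.Main
import Groth.Agent.H10Coh.HigherDirect2

/-!
# Morphisms out of an inverse image, checked on sections over affine opens
-/

set_option autoImplicit false
set_option linter.style.haveILetI false

noncomputable section

universe u

open CategoryTheory CategoryTheory.Limits AlgebraicGeometry Opposite TopologicalSpace TensorProduct
open Groth.Agent.H10Coh

namespace Groth.Agent.H10Coh.FBC

variable {S S' : Scheme.{u}} (g : S' ⟶ S)

theorem exists_affine_pair {U : S'.Opens} {x : S'} (hx : x ∈ U) :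
    ∃ (V : S.Opens) (V' : S'.Opens), IsAffineOpen V ∧ IsAffineOpen V' ∧ V' ≤ g ⁻¹ᵁ V ∧ x ∈ V' ∧ V' ≤ U := by
  obtain ⟨V, hV, hxV, -⟩ := exists_isAffineOpen_mem_and_subset (U := (⊤ : S.Opens)) (x := g.base x) trivial
  obtain ⟨V', hV', hxV', hle⟩ := exists_isAffineOpen_mem_and_subset (U := g ⁻¹ᵁ V ⊓ U) (x := x) ⟨hxV, hx⟩
  exact ⟨V, V', hV, hV', fun y hy => (hle hy).1, hxV', fun y hy => (hle hy).2⟩

theorem isIso_of_bijective_affine_le {M N : S'.Modules} (ψ : M ⟶ N)
    (h : ∀ (V : S.Opens) (V' : S'.Opens), IsAffineOpen V → IsAffineOpen V' → V' ≤ g ⁻¹ᵁ V →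
      Function.Bijective (ψ.app V')) : IsIso ψ := by
  haveI : IsIso ((shF S').map ψ) := by
    refine TopCat.Sheaf.isIso_iff_isIso_basis
      (B := fun i : {V' : S'.Opens // IsAffineOpen V' ∧ ∃ V : S.Opens, IsAffineOpen V ∧ V' ≤ g ⁻¹ᵁ V} => i.1)
      ?_ fun ⟨V', hV', V, hV, hle⟩ => ?_
    · rw [Opens.isBasis_iff_nbhd]
      intro U x hx
      obtain ⟨V, V', hV, hV', hle, hxV', hU⟩ := exists_affine_pair g hx
      exact ⟨V', ⟨⟨V', hV', V, hV, hle⟩, rfl⟩, hxV', hU⟩
    · exact (ConcreteCategory.isIso_iff_bijective _).2 (h V V' hV hV' hle)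
  exact isIso_of_reflects_iso ψ (shF S')

/-- Evaluate a morphism to a direct image and restrict. -/
def locLin {N : S.Modules} {N' : S'.Modules} (τ : N ⟶ (Scheme.Modules.pushforward g).obj N')
    {V : S.Opens} {V' : S'.Opens} (hle : V' ≤ g ⁻¹ᵁ V) :
    letI := Module.compHom Γ(N', V') (g.appLE V V' hle).hom
    Γ(N, V) →ₗ[Γ(S, V)] Γ(N', V') :=
  letI := Module.compHom Γ(N', V') (g.appLE V V' hle).hom
  { toFun := fun m => rs N' hle (τ.app V m)
    map_add' := fun a b => (congrArg (rs N' hle) (map_add (τ.app V).hom a b)).trans (map_add _ _ _)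
    map_smul' := fun r m => by
      refine (congrArg (rs N' hle) (τ.app_smul r m)).trans ?_
      exact Scheme.Modules.map_smul N' _ _ _ }

/-- A transpose is an isomorphism if it is bijective after extending scalars on affine opens. -/
theorem isIso_transpose {N : S.Modules} {N' : S'.Modules} (hN : Coh.IsQCoh N)
    (τ : N ⟶ (Scheme.Modules.pushforward g).obj N')
    (h : ∀ (V : S.Opens) (V' : S'.Opens) (_ : IsAffineOpen V) (_ : IsAffineOpen V') (hle : V' ≤ g ⁻¹ᵁ V),
      letI := (g.appLE V V' hle).hom.toAlgebra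
      letI := Module.compHom Γ(N', V') (g.appLE V V' hle).hom
      haveI : IsScalarTower Γ(S, V) Γ(S', V') Γ(N', V') := .of_algebraMap_smul fun _ _ => rfl
      Function.Bijective (LinearMap.liftBaseChange Γ(S', V') (locLin g τ hle))) :
    IsIso (((Scheme.Modules.pullbackPushforwardAdjunction g).homEquiv N N').symm τ) := by
  refine isIso_of_bijective_affine_le g _ fun V V' hV hV' hle => ?_
  letI := (g.appLE V V' hle).hom.toAlgebra
  letI := Module.compHom Γ(N', V') (g.appLE V V' hle).hom
  haveI : IsScalarTower Γ(S, V) Γ(S', V') Γ(N', V') := .of_algebraMap_smul fun _ _ => rfl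
  letI := Module.compHom Γ((Scheme.Modules.pullback g).obj N, V') (g.appLE V V' hle).hom
  haveI : IsScalarTower Γ(S, V) Γ(S', V') Γ((Scheme.Modules.pullback g).obj N, V') :=
    .of_algebraMap_smul fun _ _ => rfl
  have hbc : IsBaseChange Γ(S', V') (H8Props.PullSections.pullLin g N hle) :=
    H8Props.PullSections.isBaseChange_pullLin g N hle hN hV hV'
  let ψ := ((Scheme.Modules.pullbackPushforwardAdjunction g).homEquiv N N').symm τ
  have hψ : (Scheme.Modules.pullbackPushforwardAdjunction g).unit.app N ≫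
      (Scheme.Modules.pushforward g).map ψ = τ :=
    ((Scheme.Modules.pullbackPushforwardAdjunction g).homEquiv_unit N N' ψ).symm.trans (Equiv.apply_symm_apply _ τ)
  have he : ∀ z, LinearMap.liftBaseChange Γ(S', V') (locLin g τ hle) z = ψ.app V' (hbc.equiv z) := fun z => by
    induction z using TensorProduct.induction_on with
    | zero => rw [map_zero, map_zero, map_zero]
    | add x y hx hy => rw [map_add, map_add, map_add, hx, hy]
    | tmul b m =>
      rw [LinearMap.liftBaseChange_tmul, IsBaseChange.equiv_tmul]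
      refine Eq.trans ?_ (ψ.app_smul b _).symm
      refine congrArg (b • ·) ?_
      refine Eq.trans ?_ (app_rs ψ hle (OmegaSh.pullSect g N V m)).symm
      exact congrArg (rs N' hle) (congr($(congrArg (fun k => Scheme.Modules.Hom.app k V) hψ) m)).symm
  have h' := h V V' hV hV' hle
  rw [funext he] at h'
  exact (Function.Bijective.of_comp_iff (ψ.app V') hbc.equiv.bijective).1 h'

end Groth.Agent.H10Coh.FBC
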