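import Groth.Agent.H10Coh.FlatBC.Core
import Groth.Agent.H10Coh.Affine
import Groth.Agent.H10Coh.FinH
import Groth.Agent.H16Derived.KFlat.RestrictD
import Groth.Agent.H29Fitt.PullbackQCoh

/-!
# Flat base change for cohomology over affine bases
-/

set_option autoImplicit false
set_option linter.style.haveILetI false

noncomputable section

universe u

open CategoryTheory CategoryTheory.Limits AlgebraicGeometry Opposite TopologicalSpace TensorProduct
open Groth.Agent.H10Coh

namespace Groth.Agent.H10Coh.FBC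

attribute [local instance 10000] hasSheafifyAb hasWeakSheafifyAb hasExtAb enoughInjAb
attribute [local instance] modA enoughInjMod

section maps

variable {X X' : Scheme.{u}} (q : X' ⟶ X) [Flat q]

theorem injective_push (J : X'.Modules) [Injective J] :
    Injective ((Scheme.Modules.pushforward q).obj J) := by
  haveI := H16Derived.KFlat.Stalk.preservesFiniteLimits_pullback_of_flat q
  haveI : (Scheme.Modules.pullback q).PreservesMonomorphisms := inferInstance
  exact Injective.injective_of_adjoint (Scheme.Modules.pullbackPushforwardAdjunction q) J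

variable (R : MRes X) (R' : MRes X') [∀ n, Injective (R'.I n)]
  (α₀ : R.Z 0 ⟶ (Scheme.Modules.pushforward q).obj (R'.Z 0))

/-- The extension of a map on cocycles to cochains. -/
def extendI (n : ℕ) (a : R.Z n ⟶ (Scheme.Modules.pushforward q).obj (R'.Z n)) :
    R.I n ⟶ (Scheme.Modules.pushforward q).obj (R'.I n) :=
  haveI := (R.se n).mono_f
  haveI : Injective ((Scheme.Modules.pushforward q).obj (R'.I n)) := injective_push q (R'.I n)
  Injective.factorThru (a ≫ (Scheme.Modules.pushforward q).map (R'.i n)) (R.i n)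

theorem i_extendI (n : ℕ) (a : R.Z n ⟶ (Scheme.Modules.pushforward q).obj (R'.Z n)) :
    R.i n ≫ extendI q R R' n a = a ≫ (Scheme.Modules.pushforward q).map (R'.i n) := by
  haveI := (R.se n).mono_f
  haveI : Injective ((Scheme.Modules.pushforward q).obj (R'.I n)) := injective_push q (R'.I n)
  exact Injective.comp_factorThru _ _

theorem exists_next (n : ℕ) (a : R.Z n ⟶ (Scheme.Modules.pushforward q).obj (R'.Z n)) :
    ∃ a' : R.Z (n + 1) ⟶ (Scheme.Modules.pushforward q).obj (R'.Z (n + 1)),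
      R.p n ≫ a' = extendI q R R' n a ≫ (Scheme.Modules.pushforward q).map (R'.p n) := by
  haveI := (R.se n).epi_g
  refine ⟨(R.se n).exact.desc (extendI q R R' n a ≫ (Scheme.Modules.pushforward q).map (R'.p n)) ?_,
    (R.se n).exact.g_desc _ _⟩
  rw [← Category.assoc, show (ShortComplex.mk (R.i n) (R.p n) (R.w n)).f = R.i n from rfl, i_extendI,
    Category.assoc, ← Functor.map_comp, R'.w, Functor.map_zero, comp_zero]

/-- The comparison on cocycles. -/
def αres : ∀ n, R.Z n ⟶ (Scheme.Modules.pushforward q).obj (R'.Z n)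
  | 0 => α₀
  | n + 1 => (exists_next q R R' n (αres n)).choose

end maps

variable {A : Type u} [CommRing A] {X : Scheme.{u}} [X.Over (Spec (CommRingCat.of A))]
variable {B : Type u} [CommRing B] [Algebra A B]
variable {X' : Scheme.{u}} [X'.Over (Spec (CommRingCat.of B))] {q : X' ⟶ X}
  (hsq : IsPullback q (X' ↘ Spec (CommRingCat.of B)) (X ↘ Spec (CommRingCat.of A))
      (Spec.map (CommRingCat.ofHom (algebraMap A B))))

/-- Comparison data from injective resolutions. -/
def dataOfRes [Flat q] (R : MRes X) (R' : MRes X') [∀ n, Injective (R'.I n)]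
    (α₀ : R.Z 0 ⟶ (Scheme.Modules.pushforward q).obj (R'.Z 0)) : Data (A := A) R B q R' where
  hsc W a := LeadFF.app_scal hsq W a
  α := αres q R R' α₀
  β n := extendI q R R' n (αres q R R' α₀ n)
  comm₁ n := (i_extendI q R R' n _).symm
  comm₂ n := (exists_next q R R' n (αres q R R' α₀ n)).choose_spec.symm

include hsq in
theorem bijective_bcMap_unit (M : X.Modules) (hM : Coh.IsQCoh M) {U : X.Opens} (hU : IsAffineOpen U) :
    Function.Bijective (bcMap (A := A) (B := B) (fun W a => LeadFF.app_scal hsq W a)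
      ((Scheme.Modules.pullbackPushforwardAdjunction q).unit.app M) U) := by
  haveI := LeadFF.isAffineHom_fst hsq
  let C := Γ(X, U)
  let C' := Γ(X', q ⁻¹ᵁ U)
  let N := Γ((Scheme.Modules.pullback q).obj M, q ⁻¹ᵁ U)
  letI : Algebra A C := (sc (A := A) U).toAlgebra
  letI : Algebra B C' := (sc (A := B) (q ⁻¹ᵁ U)).toAlgebra
  letI : Algebra A C' := ((sc (A := B) (q ⁻¹ᵁ U)).comp (algebraMap A B)).toAlgebra
  haveI : IsScalarTower A B C' := .of_algebraMap_eq fun _ => rfl
  haveI : IsScalarTower A C Γ(M, U) := .of_algebraMap_smul fun _ _ => rfl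
  have h : q ⁻¹ᵁ U ≤ q ⁻¹ᵁ U := le_rfl
  have happ : q.appLE U (q ⁻¹ᵁ U) h = q.app U := (Scheme.Hom.app_eq_appLE q).symm
  letI : Module C N := Module.compHom _ (q.appLE U (q ⁻¹ᵁ U) h).hom
  letI alg : Algebra C C' := (q.appLE U (q ⁻¹ᵁ U) h).hom.toAlgebra
  haveI : IsScalarTower C C' N := .of_algebraMap_smul fun _ _ => rfl
  haveI : IsScalarTower A C C' := .of_algebraMap_eq fun a => by
    show _ = q.appLE U (q ⁻¹ᵁ U) h (sc (A := A) U a)
    rw [happ]; exact (LeadFF.app_scal hsq U a).symm
  haveI : Algebra.IsPushout A B C C' := by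
    haveI : Algebra.IsPushout A C B C' := CommRingCat.isPushout_iff_isPushout.mp (by
      have := LeadFF.isPushout_scal hsq hU
      rw [← happ] at this
      exact this)
    exact Algebra.IsPushout.symm inferInstance
  have hbc : IsBaseChange C' (H8Props.PullSections.pullLin q M h) :=
    H8Props.PullSections.isBaseChange_pullLin q M h hM hU (hU.preimage q)
  let e₁ : C' ⊗[C] Γ(M, U) ≃ₗ[C'] N := hbc.equiv
  let e₂ := Algebra.IsPushout.cancelBaseChangeAux A B C C' Γ(M, U)
  have he : ∀ z, bcMap (A := A) (B := B) (fun W a => LeadFF.app_scal hsq W a)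
      ((Scheme.Modules.pullbackPushforwardAdjunction q).unit.app M) U z = e₁ (e₂.symm z) := fun z => by
    induction z using TensorProduct.induction_on with
    | zero => rw [map_zero, map_zero, map_zero]
    | add x y hx hy => rw [map_add, map_add, map_add, hx, hy]
    | tmul b m =>
      rw [bcMap_tmul, Algebra.IsPushout.cancelBaseChangeAux_symm_tmul, IsBaseChange.equiv_tmul]
      refine congrArg (sc (A := B) (q ⁻¹ᵁ U) b • ·) ?_
      show _ = ((Scheme.Modules.pullback q).obj M).presheaf.map (homOfLE h).op (OmegaSh.pullSect q M U m)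
      rw [show (homOfLE h).op = 𝟙 _ from rfl, CategoryTheory.Functor.map_id]
      rfl
  rw [funext he]
  exact e₁.bijective.comp e₂.symm.bijective

variable (R : MRes X)

/-- Classes of cocycles in `H^n(X, -)`, linear over the base. -/
def clsHH (n : ℕ) : Γ(R.Z n, (⊤ : X.Opens)) →ₗ[A] Coh.HH X (R.Z 0) n :=
  { (HHEquiv (R.Z 0) n).symm.toAddMonoidHom.comp (FRes.cls n R.toF ⊤) with
    map_smul' := fun a z => by
      apply (HHEquiv (R.Z 0) n).injective
      refine ((HHEquiv (R.Z 0) n).apply_symm_apply _).trans ?_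
      refine Eq.trans ?_ (HHEquiv_smul' (R.Z 0) n a _).symm
      refine (cls_smul R n ⊤ (globA a) z).trans ?_
      rw [postH_apply]
      exact congrArg (fun x => Abelian.Ext.comp x _ (add_zero n))
        ((HHEquiv (R.Z 0) n).apply_symm_apply _).symm }

theorem clsHH_surjective (n : ℕ) : Function.Surjective (clsHH (A := A) R n) :=
  (HHEquiv (R.Z 0) n).symm.surjective.comp (FRes.cls_surjective n R.toF ⊤)

theorem clsHH_eq_zero_iff (n : ℕ) (z : Γ(R.Z n, (⊤ : X.Opens))) :
    clsHH (A := A) R n z = 0 ↔ Bd R n z :=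
  (map_eq_zero_iff _ (HHEquiv (R.Z 0) n).symm.injective).trans (Bd.iff_cls R n z).symm

variable (B) in
theorem T_clsHH_eq_zero_iff [Module.Flat A B] (n : ℕ) (z : B ⊗[A] Γ(R.Z n, (⊤ : X.Opens))) :
    T B (clsHH (A := A) R n) z = 0 ↔ TBd R B n z := by
  cases n with
  | zero =>
    exact map_eq_zero_iff _ (T_injective B _ ((injective_iff_map_eq_zero (clsHH (A := A) R 0)).2
      fun m hm => (clsHH_eq_zero_iff R 0 m).1 hm))
  | succ n =>
    exact T_exact B (pL (A := A) R n ⊤) (clsHH (A := A) R (n + 1))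
      (fun y => (clsHH_eq_zero_iff R (n + 1) y).trans ⟨fun ⟨d, hd⟩ => ⟨d, hd⟩, fun ⟨d, hd⟩ => ⟨d, hd⟩⟩) z

theorem nonempty_equiv_of_data [Module.Flat A B] [CompactSpace X] [QuasiSeparatedSpace X]
    {R' : MRes X'} (D : Data (A := A) R B q R')
    (h0 : ∀ W : X.Opens, IsAffineOpen W → Function.Bijective (ΦZ D 0 W))
    (hacy : ∀ (n : ℕ) (W : X.Opens), IsAffineOpen W → Subsingleton (HnM (R.Z 0) (n + 1) W) ∧
      Subsingleton (HnM (R'.Z 0) (n + 1) (q ⁻¹ᵁ W))) (n : ℕ) :
    Nonempty (B ⊗[A] Coh.HH X (R.Z 0) n ≃ₗ[B] Coh.HH X' (R'.Z 0) n) := by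
  obtain ⟨hi, hs⟩ := injBC_surjBC D h0 hacy n ⊤ (by simpa using isCompact_univ)
  let g : B ⊗[A] Γ(R.Z n, (⊤ : X.Opens)) →ₗ[B] Coh.HH X' (R'.Z 0) n := (clsHH (A := B) R' n).comp (ΦZ D n ⊤)
  let f := T B (clsHH (A := A) R n)
  have hg : Function.Surjective g := fun y => by
    obtain ⟨z', rfl⟩ := clsHH_surjective (A := B) R' n y
    obtain ⟨z, hz⟩ := hs z'
    exact ⟨z, sub_eq_zero.1 ((map_sub (clsHH (A := B) R' n) _ _).symm.trans
      ((clsHH_eq_zero_iff (A := B) R' n _).2 hz))⟩
  have hf : Function.Surjective f := T_surjective B _ (clsHH_surjective R n)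
  have hker : LinearMap.ker f = LinearMap.ker g := Submodule.ext fun z =>
    ((T_clsHH_eq_zero_iff B R n z).trans ⟨fun h => Φ_TBd D n h, fun h => hi z h⟩).trans
      (clsHH_eq_zero_iff (A := B) R' n _).symm
  exact ⟨(f.quotKerEquivOfSurjective hf).symm ≪≫ₗ Submodule.quotEquivOfEq _ _ hker ≪≫ₗ
    g.quotKerEquivOfSurjective hg⟩

theorem flat_fst [Module.Flat A B] (hsq : IsPullback q (X' ↘ Spec (CommRingCat.of B))
    (X ↘ Spec (CommRingCat.of A)) (Spec.map (CommRingCat.ofHom (algebraMap A B)))) : Flat q :=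
  haveI : Flat (Spec.map (CommRingCat.ofHom (algebraMap A B))) :=
    (HasRingHomProperty.Spec_iff (P := @Flat)).2 (RingHom.flat_algebraMap_iff.2 inferInstance)
  MorphismProperty.of_isPullback (P := @Flat) hsq.flip inferInstance

theorem nonempty_equiv_of_res [Module.Flat A B] [CompactSpace X] [QuasiSeparatedSpace X] (M : X.Modules)
    [M.IsQuasicoherent] (R' : MRes X') [∀ n, Injective (R'.I n)]
    (hR : R.Z 0 = M) (hR' : R'.Z 0 = (Scheme.Modules.pullback q).obj M)
    (hsq : IsPullback q (X' ↘ Spec (CommRingCat.of B))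
      (X ↘ Spec (CommRingCat.of A)) (Spec.map (CommRingCat.ofHom (algebraMap A B)))) (n : ℕ) :
    Nonempty (B ⊗[A] Coh.HH X M n ≃ₗ[B] Coh.HH X' ((Scheme.Modules.pullback q).obj M) n) := by
  subst hR
  haveI := flat_fst hsq
  haveI := LeadFF.isAffineHom_fst hsq
  let α₀ : R.Z 0 ⟶ (Scheme.Modules.pushforward q).obj (R'.Z 0) :=
    (Scheme.Modules.pullbackPushforwardAdjunction q).unit.app (R.Z 0) ≫
      (Scheme.Modules.pushforward q).map (eqToHom hR'.symm)
  haveI hq : (R'.Z 0).IsQuasicoherent := by rw [hR']; exact H29Fitt.isQCoh_pullback q (R.Z 0) ‹_›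
  have key : ∀ (N : X'.Modules) (h : N = (Scheme.Modules.pullback q).obj (R.Z 0)) (W : X.Opens),
      IsAffineOpen W →
      Function.Bijective (bcMap (A := A) (B := B) (fun W a => LeadFF.app_scal hsq W a)
        ((Scheme.Modules.pullbackPushforwardAdjunction q).unit.app (R.Z 0) ≫
          (Scheme.Modules.pushforward q).map (eqToHom h.symm)) W) := by
    rintro _ rfl W hW
    have e1 : (Scheme.Modules.pullbackPushforwardAdjunction q).unit.app (R.Z 0) ≫
        (Scheme.Modules.pushforward q).map (eqToHom rfl) =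
        (Scheme.Modules.pullbackPushforwardAdjunction q).unit.app (R.Z 0) :=
      (congrArg (_ ≫ ·) ((Scheme.Modules.pushforward q).map_id _)).trans (Category.comp_id _)
    exact Eq.mpr (congrArg (fun φ => Function.Bijective
      (bcMap (A := A) (B := B) (fun W a => LeadFF.app_scal hsq W a) φ W)) e1)
      (bijective_bcMap_unit hsq (R.Z 0) ‹_› hW)
  obtain ⟨e⟩ := nonempty_equiv_of_data R (dataOfRes hsq R R' α₀) (fun W hW => key _ hR' W hW)
    (fun k W hW => ⟨subsingleton_HnM_of_isAffineOpen _ hW k,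
      subsingleton_HnM_of_isAffineOpen _ (hW.preimage q) k⟩) n
  exact hR' ▸ ⟨e⟩

theorem nonempty_flat_base_change [Module.Flat A B] [CompactSpace X] [QuasiSeparatedSpace X] (M : X.Modules)
    [M.IsQuasicoherent]
    (hsq : IsPullback q (X' ↘ Spec (CommRingCat.of B))
      (X ↘ Spec (CommRingCat.of A)) (Spec.map (CommRingCat.ofHom (algebraMap A B)))) (n : ℕ) :
    Nonempty (B ⊗[A] Coh.HH X M n ≃ₗ[B] Coh.HH X' ((Scheme.Modules.pullback q).obj M) n) := by
  haveI : ∀ k, Injective ((MRes.inj ((Scheme.Modules.pullback q).obj M)).I k) := fun k => injective_mI _ k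
  exact nonempty_equiv_of_res (MRes.inj M) M (MRes.inj ((Scheme.Modules.pullback q).obj M)) rfl rfl hsq n

end Groth.Agent.H10Coh.FBC
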