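import Groth.Agent.H10Coh.FlatBC.Sheaf
import Groth.Agent.H10Coh.QcqsPush

/-!
# Flat base change for higher direct images
-/

set_option autoImplicit false
set_option linter.style.haveILetI false

noncomputable section

universe u

open CategoryTheory CategoryTheory.Limits AlgebraicGeometry Opposite TopologicalSpace TensorProduct
open Groth.Agent.H10Coh

namespace Groth.Agent.H10Coh.FBC

attribute [local instance 10000] hasSheafifyAb hasWeakSheafifyAb hasExtAb enoughInjAb
attribute [local instance] modA enoughInjMod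

variable {X S X' S' : Scheme.{u}} {f : X ⟶ S} {g : S' ⟶ S} {g' : X' ⟶ X} {f' : X' ⟶ S'}
  (h : IsPullback g' f' f g) {V : S.Opens} {V' : S'.Opens}

/-- The first comparison map between resolutions. -/
abbrev α₀ (M : X.Modules) (R : MRes X) (R' : MRes X') (hR : R.Z 0 = M)
    (hR' : R'.Z 0 = (Scheme.Modules.pullback g').obj M) :
    R.Z 0 ⟶ (Scheme.Modules.pushforward g').obj (R'.Z 0) :=
  eqToHom hR ≫ (Scheme.Modules.pullbackPushforwardAdjunction g').unit.app M ≫
    (Scheme.Modules.pushforward g').map (eqToHom hR'.symm)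

variable (R : MRes X) (R' : MRes X')

/-- A morphism of resolutions along `g'` lying over a presentation of the inverse image. -/
structure GData (g' : X' ⟶ X) where
  α : ∀ n, R.Z n ⟶ (Scheme.Modules.pushforward g').obj (R'.Z n)
  β : ∀ n, R.I n ⟶ (Scheme.Modules.pushforward g').obj (R'.I n)
  comm₁ : ∀ n, α n ≫ (Scheme.Modules.pushforward g').map (R'.i n) = R.i n ≫ β n
  comm₂ : ∀ n, β n ≫ (Scheme.Modules.pushforward g').map (R'.p n) = R.p n ≫ α (n + 1)
  iso₀ : IsIso (((Scheme.Modules.pullbackPushforwardAdjunction g').homEquiv _ _).symm (α 0))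

/-- The data given by injective resolutions. -/
def gres [Flat g'] [∀ n, Injective (R'.I n)] (M : X.Modules) (hR : R.Z 0 = M)
    (hR' : R'.Z 0 = (Scheme.Modules.pullback g').obj M) : GData R R' g' where
  α := αres g' R R' (α₀ M R R' hR hR')
  β n := extendI g' R R' n (αres g' R R' (α₀ M R R' hR hR') n)
  comm₁ n := (i_extendI g' R R' n _).symm
  comm₂ n := (exists_next g' R R' n (αres g' R R' (α₀ M R R' hR hR') n)).choose_spec.symm
  iso₀ := by
    subst hR
    have e : ((Scheme.Modules.pullbackPushforwardAdjunction g').homEquiv _ _).symm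
        (αres g' R R' (α₀ (R.Z 0) R R' rfl hR') 0) = eqToHom hR'.symm := by
      rw [Equiv.symm_apply_eq, Adjunction.homEquiv_unit]
      exact Category.id_comp _
    rw [e]
    infer_instance

variable {R R'} (G : GData R R' g')

/-- The comparison data on the preimages of affine opens. -/
def locData (hle : V' ≤ g ⁻¹ᵁ V) (hV : IsAffineOpen V) (hV' : IsAffineOpen V') :
    letI := (g.appLE V V' hle).hom.toAlgebra
    letI := overV f hV
    letI := overV f' hV'
    Data (A := Γ(S, V)) (R.restrict (f ⁻¹ᵁ V).ι) Γ(S', V') (qLoc h hle) (R'.restrict (f' ⁻¹ᵁ V').ι) :=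
  letI := (g.appLE V V' hle).hom.toAlgebra
  letI := overV f hV
  letI := overV f' hV'
  { hsc := qLoc_sc h hle hV hV'
    α := fun n => locMap (qLoc_w h hle) (G.α n)
    β := fun n => locMap (qLoc_w h hle) (G.β n)
    comm₁ := fun n => locMap_comm (qLoc_w h hle) (G.comm₁ n)
    comm₂ := fun n => locMap_comm (qLoc_w h hle) (G.comm₂ n) }

theorem module_flat_appLE [Flat g] (hle : V' ≤ g ⁻¹ᵁ V) (hV : IsAffineOpen V) (hV' : IsAffineOpen V') :
    letI := (g.appLE V V' hle).hom.toAlgebra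
    Module.Flat Γ(S, V) Γ(S', V') := g.flat_appLE hV hV' hle

theorem qs_preimage [QuasiSeparated f] (hV : IsAffineOpen V) : QuasiSeparatedSpace (f ⁻¹ᵁ V).toScheme := by
  have : IsAffine V.toScheme := hV
  exact quasiSeparatedSpace_of_quasiSeparated (f ∣_ V)

variable (hM : Coh.IsQCoh (R.Z 0))

include hM in
/-- Base change holds on the preimage of an affine open. -/
theorem injBC_surjBC_loc [Flat g] [QuasiCompact f] [QuasiSeparated f] (hle : V' ≤ g ⁻¹ᵁ V)
    (hV : IsAffineOpen V) (hV' : IsAffineOpen V') (n : ℕ) :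
    letI := (g.appLE V V' hle).hom.toAlgebra
    letI := overV f hV
    letI := overV f' hV'
    InjBC (locData h G hle hV hV') n ⊤ ∧
      SurjBC (locData h G hle hV hV') n ⊤ := by
  letI := (g.appLE V V' hle).hom.toAlgebra
  letI := overV f hV
  letI := overV f' hV'
  haveI := module_flat_appLE hle hV hV' (g := g)
  haveI := qs_preimage (f := f) hV
  haveI := LeadFF.isAffineHom_fst (isPullback_qLoc h hle hV hV')
  haveI : (R.Z 0).IsQuasicoherent := hM
  haveI := G.iso₀
  haveI : (R'.Z 0).IsQuasicoherent := @isQuasicoherent_of_iso _ _ _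
    (asIso (((Scheme.Modules.pullbackPushforwardAdjunction g').homEquiv _ _).symm (G.α 0)))
    (H29Fitt.isQCoh_pullback g' _ hM)
  haveI : ((R.restrict (f ⁻¹ᵁ V).ι).Z 0).IsQuasicoherent :=
    Scheme.Modules.isQuasicoherent_restrictFunctor _ _
  haveI : ((R'.restrict (f' ⁻¹ᵁ V').ι).Z 0).IsQuasicoherent :=
    Scheme.Modules.isQuasicoherent_restrictFunctor _ _
  have hcpt : IsCompact ((⊤ : (f ⁻¹ᵁ V).toScheme.Opens) : Set (f ⁻¹ᵁ V).toScheme) := by
    haveI : CompactSpace (f ⁻¹ᵁ V).toScheme :=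
      isCompact_iff_compactSpace.1 (QuasiCompact.isCompact_preimage (f := f) _ V.2 hV.isCompact)
    simpa using isCompact_univ
  refine injBC_surjBC _ (fun W hW => ?_) (fun k W hW => ⟨subsingleton_HnM_of_isAffineOpen _ hW k,
    subsingleton_HnM_of_isAffineOpen _ (hW.preimage (qLoc h hle)) k⟩) n ⊤ hcpt
  exact bijective_loc h hle (M := R.Z 0) ‹_›
    (asIso (((Scheme.Modules.pullbackPushforwardAdjunction g').homEquiv _ _).symm (G.α 0))) (G.α 0)
    ((((Scheme.Modules.pullbackPushforwardAdjunction g').homEquiv _ _).apply_symm_apply (G.α 0)).symm.trans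
      (Adjunction.homEquiv_unit _ _ _ _))
    hV hV' hW

include hM in
/-- Flat base change of direct images: bijectivity on affine opens. -/
theorem bijective_locLin_zero [Flat g] [QuasiCompact f] [QuasiSeparated f] (hle : V' ≤ g ⁻¹ᵁ V)
    (hV : IsAffineOpen V) (hV' : IsAffineOpen V') :
    letI := (g.appLE V V' hle).hom.toAlgebra
    letI := Module.compHom Γ((Scheme.Modules.pushforward f').obj (R'.Z 0), V') (g.appLE V V' hle).hom
    haveI : IsScalarTower Γ(S, V) Γ(S', V') Γ((Scheme.Modules.pushforward f').obj (R'.Z 0), V') :=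
      .of_algebraMap_smul fun _ _ => rfl
    Function.Bijective (LinearMap.liftBaseChange Γ(S', V')
      (locLin g (τPush h (G.α 0)) hle)) := by
  letI := (g.appLE V V' hle).hom.toAlgebra
  letI := Module.compHom Γ((Scheme.Modules.pushforward f').obj (R'.Z 0), V') (g.appLE V V' hle).hom
  haveI : IsScalarTower Γ(S, V) Γ(S', V') Γ((Scheme.Modules.pushforward f').obj (R'.Z 0), V') :=
    .of_algebraMap_smul fun _ _ => rfl
  letI := overV f hV
  letI := overV f' hV'
  obtain ⟨hi, hs⟩ := injBC_surjBC_loc h G hM hle hV hV' 0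
  have hT := fromSect_bijective f' hV' (R'.Z 0) _ (image_qLoc_top h hle)
  refine bijective_liftBaseChange_of_bcMap (hsc := qLoc_sc h hle hV hV')
    (locMap (qLoc_w h hle) (G.α 0)) ⊤
    (fromSect f hV (R.Z 0) ⊤ (image_ι_top _)) (fromSect_bijective f hV (R.Z 0) ⊤ _).2
    (fromSect f' hV' _ _ (image_qLoc_top h hle)) hT.2
    _ (fun m => locLin_fromSect h hle hV hV' _ ⊤ _ _ m) (fun z' => ?_) (fun z hz => ?_)
  · obtain ⟨z, hz⟩ := hs z'
    exact ⟨z, (congrArg _ (show bcMap (qLoc_sc h hle hV hV') (locMap (qLoc_w h hle) (G.α 0)) ⊤ z - z' = 0 from hz)).trans (map_zero _)⟩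
  · rw [show z = 0 from hi z (hT.1 (hz.trans (map_zero _).symm)), map_zero]

section higher

variable (n : ℕ)

/-- The transpose of the base change map of the higher direct images. -/
def τHdir : hdir f R n ⟶ (Scheme.Modules.pushforward g).obj (hdir f' R' n) :=
  cokernel.desc _ (τPush h (G.α (n + 1)) ≫
      (Scheme.Modules.pushforward g).map (cokernel.π ((Coh.push f').map (R'.p n))))
    (Scheme.Modules.hom_ext _ _ fun W => AddCommGrpCat.hom_ext (AddMonoidHom.ext fun x => by
      show piA f' R' n (g ⁻¹ᵁ W) ((τPush h (G.α (n + 1))).app W ((R.p n).app (f ⁻¹ᵁ W) x)) = 0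
      rw [τPush_app]
      refine piA_eq_zero_of_Bd f' R' n _ _ ?_
      have hc : (G.α (n + 1)).app (f ⁻¹ᵁ W) ((R.p n).app (f ⁻¹ᵁ W) x) =
          (R'.p n).app (g' ⁻¹ᵁ (f ⁻¹ᵁ W)) ((G.β n).app (f ⁻¹ᵁ W) x) :=
        congr($(congrArg (fun k => Scheme.Modules.Hom.app k (f ⁻¹ᵁ W)) (G.comm₂ n).symm) x)
      rw [hc]
      exact Bd.res R' (n + 1) _ ⟨_, rfl⟩))

theorem τHdir_app_piA (W : S.Opens) (z : Γ(R.Z (n + 1), f ⁻¹ᵁ W)) :
    (τHdir h G n).app W (piA f R n W z) =
      piA f' R' n (g ⁻¹ᵁ W) ((τPush h (G.α (n + 1))).app W z) :=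
  congr($(congrArg (fun k => Scheme.Modules.Hom.app k W)
    (cokernel.π_desc ((Coh.push f).map (R.p n)) (τPush h (G.α (n + 1)) ≫
      (Scheme.Modules.pushforward g).map (cokernel.π ((Coh.push f').map (R'.p n)))) _)) z)

include hM in
/-- Flat base change of higher direct images: bijectivity on affine opens. -/
theorem bijective_locLin_hdir [Flat g] [QuasiCompact f] [QuasiSeparated f] [QuasiCompact f'] [QuasiSeparated f']
    (hle : V' ≤ g ⁻¹ᵁ V) (hV : IsAffineOpen V) (hV' : IsAffineOpen V') :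
    letI := (g.appLE V V' hle).hom.toAlgebra
    letI := Module.compHom Γ(hdir f' R' n, V') (g.appLE V V' hle).hom
    haveI : IsScalarTower Γ(S, V) Γ(S', V') Γ(hdir f' R' n, V') := .of_algebraMap_smul fun _ _ => rfl
    Function.Bijective (LinearMap.liftBaseChange Γ(S', V')
      (locLin g (τHdir h G n) hle)) := by
  letI := (g.appLE V V' hle).hom.toAlgebra
  letI := Module.compHom Γ(hdir f' R' n, V') (g.appLE V V' hle).hom
  haveI : IsScalarTower Γ(S, V) Γ(S', V') Γ(hdir f' R' n, V') := .of_algebraMap_smul fun _ _ => rfl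
  letI := overV f hV
  letI := overV f' hV'
  haveI : (R.Z 0).IsQuasicoherent := hM
  haveI := G.iso₀
  haveI : (R'.Z 0).IsQuasicoherent := @isQuasicoherent_of_iso _ _ _
    (asIso (((Scheme.Modules.pullbackPushforwardAdjunction g').homEquiv _ _).symm (G.α 0)))
    (H29Fitt.isQCoh_pullback g' _ hM)
  obtain ⟨hi, hs⟩ := injBC_surjBC_loc h G hM hle hV hV' (n + 1)
  have e := image_ι_top (f ⁻¹ᵁ V)
  have e' := image_qLoc_top h hle
  have hS := fromSect_bijective f hV (R.Z (n + 1)) ⊤ e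
  have hT := fromSect_bijective f' hV' (R'.Z (n + 1)) _ e'
  let πS : Γ((R.restrict (f ⁻¹ᵁ V).ι).Z (n + 1), ⊤) →ₗ[Γ(S, V)] Γ(hdir f R n, V) :=
    { toFun := fun z => piA f R n V (fromSect f hV (R.Z (n + 1)) ⊤ e z)
      map_add' := fun a b => by rw [map_add]; exact map_add _ _ _
      map_smul' := fun c z => by rw [map_smul]; exact piA_smul f R n V c _ }
  let πT : Γ((R'.restrict (f' ⁻¹ᵁ V').ι).Z (n + 1), (qLoc h hle) ⁻¹ᵁ ⊤) →ₗ[Γ(S', V')] Γ(hdir f' R' n, V') :=
    { toFun := fun z => piA f' R' n V' (fromSect f' hV' (R'.Z (n + 1)) _ e' z)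
      map_add' := fun a b => by rw [map_add]; exact map_add _ _ _
      map_smul' := fun c z => by rw [map_smul]; exact piA_smul f' R' n V' c _ }
  have hπT0 : ∀ z, πT z = 0 ↔ Bd (R'.restrict (f' ⁻¹ᵁ V').ι) (n + 1) z := fun z =>
    ⟨fun hz => (Bd_restrict R' _ n _ _).2 (by
      have h1 := Bd.res R' (n + 1) e'.le (Bd_of_piA_eq_zero f' R' n hV' _ hz)
      exact (congrArg (Bd R' (n + 1)) ((rs_rs (R'.Z (n + 1)) e'.ge e'.le _).trans (rs_self _ _ _))).mp h1),
    fun hz => piA_eq_zero_of_Bd f' R' n V' _ (Bd.res R' (n + 1) e'.ge ((Bd_restrict R' _ n _ _).1 hz))⟩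
  refine bijective_liftBaseChange_of_bcMap (hsc := qLoc_sc h hle hV hV')
    (locMap (qLoc_w h hle) (G.α (n + 1))) ⊤
    πS ((piA_surjective f R n hV).comp hS.2) πT ((piA_surjective f' R' n hV').comp hT.2)
    _ (fun m => ?_) (fun z' => ?_) (fun z hz => ?_)
  · show rs (hdir f' R' n) hle ((τHdir h G n).app V
      (piA f R n V (fromSect f hV (R.Z (n + 1)) ⊤ e m))) = _
    rw [τHdir_app_piA, ← piA_rs]
    exact congrArg (piA f' R' n V') (locLin_fromSect h hle hV hV' _ ⊤ e e' m)
  · obtain ⟨z, hz⟩ := hs z'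
    exact ⟨z, (hπT0 _).2 hz⟩
  · obtain ⟨d, rfl⟩ := hi z ((hπT0 _).1 hz)
    exact T_eq_zero Γ(S', V') (f := pL (A := Γ(S, V)) (R.restrict (f ⁻¹ᵁ V).ι) n ⊤) (g := πS)
      (fun m => piA_eq_zero_of_Bd f R n V _ (Bd.res R (n + 1) e.ge ⟨m, rfl⟩)) d

end higher

end Groth.Agent.H10Coh.FBC
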