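import Mathlib.RingTheory.Flat.Basic
import Mathlib.RingTheory.TensorProduct.Basic
import Mathlib.LinearAlgebra.TensorProduct.Prod

/-!
# Exactness after a flat extension of scalars
-/

set_option autoImplicit false

noncomputable section

universe u

open TensorProduct

namespace Groth.Agent.H10Coh.FBC

variable {A : Type u} (B : Type u) [CommRing A] [CommRing B] [Algebra A B]
variable {M N P : Type u} [AddCommGroup M] [Module A M] [AddCommGroup N] [Module A N]
  [AddCommGroup P] [Module A P]

/-- The extension of scalars of a linear map. -/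
abbrev T (f : M →ₗ[A] N) : B ⊗[A] M →ₗ[B] B ⊗[A] N := f.baseChange B

theorem T_tmul (f : M →ₗ[A] N) (b : B) (m : M) : T B f (b ⊗ₜ m) = b ⊗ₜ f m := LinearMap.baseChange_tmul f b m

theorem T_comp (f : M →ₗ[A] N) (g : N →ₗ[A] P) (z : B ⊗[A] M) : T B (g.comp f) z = T B g (T B f z) := by
  induction z using TensorProduct.induction_on with
  | zero => simp
  | tmul b m => simp
  | add x y hx hy => simp only [map_add, hx, hy]

theorem T_congr {Q : Type u} [AddCommGroup Q] [Module A Q] {f : M →ₗ[A] N} {g : N →ₗ[A] P}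
    {f' : M →ₗ[A] Q} {g' : Q →ₗ[A] P} (h : ∀ m, g (f m) = g' (f' m)) (z : B ⊗[A] M) :
    T B g (T B f z) = T B g' (T B f' z) := by
  rw [← T_comp, ← T_comp, show g.comp f = g'.comp f' from LinearMap.ext h]

theorem T_eq_zero {f : M →ₗ[A] N} {g : N →ₗ[A] P} (h : ∀ m, g (f m) = 0) (z : B ⊗[A] M) :
    T B g (T B f z) = 0 := by
  rw [← T_comp, show g.comp f = 0 from LinearMap.ext h]
  simp

theorem T_id {f : M →ₗ[A] M} (h : ∀ m, f m = m) (z : B ⊗[A] M) : T B f z = z := by
  rw [show f = LinearMap.id from LinearMap.ext h]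
  simp

theorem T_surjective (f : M →ₗ[A] N) (hf : Function.Surjective f) : Function.Surjective (T B f) :=
  LinearMap.lTensor_surjective B hf

theorem T_range_of_exact (f : M →ₗ[A] N) (g : N →ₗ[A] P) (h : Function.Exact f g)
    (hg : Function.Surjective g) : Function.Exact (T B f) (T B g) :=
  _root_.lTensor_exact B h hg

section flat

variable [Module.Flat A B]

theorem T_injective (f : M →ₗ[A] N) (hf : Function.Injective f) : Function.Injective (T B f) :=
  Module.Flat.lTensor_preserves_injective_linearMap f hf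

theorem T_exact (f : M →ₗ[A] N) (g : N →ₗ[A] P) (h : Function.Exact f g) :
    Function.Exact (T B f) (T B g) := Module.Flat.lTensor_exact B h

/-- Gluing of pairs agreeing after a map to a common target. -/
theorem T_glue {M₁ M₂ : Type u} [AddCommGroup M₁] [Module A M₁] [AddCommGroup M₂] [Module A M₂]
    (r₁ : M →ₗ[A] M₁) (r₂ : M →ₗ[A] M₂) (s₁ : M₁ →ₗ[A] N) (s₂ : M₂ →ₗ[A] N)
    (hinj : ∀ m, r₁ m = 0 → r₂ m = 0 → m = 0) (hcomm : ∀ m, s₁ (r₁ m) = s₂ (r₂ m))
    (hglue : ∀ a b, s₁ a = s₂ b → ∃ m, r₁ m = a ∧ r₂ m = b) :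
    (∀ z, T B r₁ z = 0 → T B r₂ z = 0 → z = 0) ∧
      ∀ (a : B ⊗[A] M₁) (b : B ⊗[A] M₂), T B s₁ a = T B s₂ b → ∃ z, T B r₁ z = a ∧ T B r₂ z = b := by
  let e := TensorProduct.prodRight A B B M₁ M₂
  let r := r₁.prod r₂
  let d := s₁.comp (LinearMap.fst A M₁ M₂) - s₂.comp (LinearMap.snd A M₁ M₂)
  have hr : Function.Exact r d := fun ab => by
    constructor
    · intro h
      obtain ⟨m, hm₁, hm₂⟩ := hglue ab.1 ab.2 (sub_eq_zero.1 h)
      exact ⟨m, Prod.ext hm₁ hm₂⟩
    · rintro ⟨m, rfl⟩
      exact sub_eq_zero.2 (hcomm m)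
  have he : ∀ z, e (T B r z) = (T B r₁ z, T B r₂ z) := fun z => by
    induction z using TensorProduct.induction_on with
    | zero => simp; rfl
    | tmul b m => simp [e, r]
    | add x y hx hy => simp only [map_add, hx, hy, Prod.mk_add_mk]
  have hd : ∀ w, T B d w = T B s₁ (e w).1 - T B s₂ (e w).2 := fun w => by
    induction w using TensorProduct.induction_on with
    | zero => simp
    | tmul b m => simp [e, d]
    | add x y hx hy => simp only [map_add, hx, hy, Prod.fst_add, Prod.snd_add]; abel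
  constructor
  · intro z h₁ h₂
    refine T_injective B r ((injective_iff_map_eq_zero r).2 fun m hm => hinj m (congrArg Prod.fst hm)
      (congrArg Prod.snd hm)) (e.injective ?_)
    rw [he, h₁, h₂, map_zero, map_zero]
    rfl
  · intro a b h
    obtain ⟨z, hz⟩ := (T_exact B r d hr (e.symm (a, b))).1 (by
      rw [hd, LinearEquiv.apply_symm_apply, h, sub_self])
    have := congrArg e hz
    rw [he, LinearEquiv.apply_symm_apply, Prod.mk.injEq] at this
    exact ⟨z, this⟩

end flat

end Groth.Agent.H10Coh.FBC
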