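import Groth.Agent.H10Coh.FlatBC.FlatSheaf
import Groth.Prelude.Def_CohBC2

/-!
# The base change morphism in degree `q`, computed on resolutions
-/

set_option autoImplicit false
set_option linter.style.haveILetI false

noncomputable section

universe u

open CategoryTheory CategoryTheory.Limits AlgebraicGeometry Opposite TopologicalSpace HomologicalComplex
open Groth.Agent.H10Coh

namespace Groth.Agent.H10Coh.FBC

attribute [local instance 10000] hasSheafifyAb hasWeakSheafifyAb hasExtAb enoughInjAb
attribute [local instance] enoughInjMod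

section cycles

variable {X Y : Scheme.{u}}

instance isIso_cyclesComparison (Ψ : X.Modules ⥤ Y.Modules) [Ψ.Additive] [PreservesFiniteLimits Ψ]
    (K : CochainComplex X.Modules ℕ) (i : ℕ) : IsIso (RDer.cyclesComparison Ψ K i) := by
  let a := KernelFork.mapIsLimit _ (K.cyclesIsKernel i ((ComplexShape.up ℕ).next i) rfl) Ψ
  let b := ((Ψ.mapHomologicalComplex _).obj K).cyclesIsKernel i ((ComplexShape.up ℕ).next i) rfl
  have e : RDer.cyclesComparison Ψ K i = (IsLimit.conePointUniqueUpToIso b a).hom := by
    apply Fork.IsLimit.hom_ext a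
    exact (RDer.cyclesComparison_i Ψ K i).trans
      (IsLimit.conePointUniqueUpToIso_hom_comp b a WalkingParallelPair.zero).symm
  rw [e]
  infer_instance

variable {M : X.Modules} (I : InjectiveResolution M)

theorem epi_toCycles_res (n : ℕ) : Epi (I.cocomplex.toCycles n (n + 1)) := by
  have h := RDer.res_exactAt_succ I.cocomplex I.ι n
  have h0 : IsZero (I.cocomplex.homology (n + 1)) := h.isZero_homology
  refine Preadditive.epi_of_cancel_zero _ fun {T} g hg => ?_
  let c := (I.cocomplex.homologyIsCokernel n (n + 1) (by simp)).desc (CokernelCofork.ofπ g hg)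
  have hc : I.cocomplex.homologyπ (n + 1) ≫ c = g :=
    (I.cocomplex.homologyIsCokernel n (n + 1) (by simp)).fac _ WalkingParallelPair.one
  rw [← hc, h0.eq_of_src c 0, comp_zero]

/-- An injective resolution, cut into short exact sequences. -/
def resOfInj : MRes X where
  I n := I.cocomplex.X n
  Z n := I.cocomplex.cycles n
  i n := I.cocomplex.iCycles n
  p n := I.cocomplex.toCycles n (n + 1)
  w n := by rw [← cancel_mono (I.cocomplex.iCycles (n + 1)), Category.assoc, toCycles_i, iCycles_d, zero_comp]
  se n :=
    haveI := epi_toCycles_res I n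
    { exact := ShortComplex.exact_of_f_is_kernel _ (by
        exact isKernelOfComp (I.cocomplex.iCycles (n + 1)) _ (I.cocomplex.cyclesIsKernel n (n + 1) (by simp))
          _ (I.cocomplex.toCycles_i n (n + 1)))
      mono_f := by dsimp; infer_instance }
  fl n := flasque_sh_of_injective (I.cocomplex.X n)

end cycles

section data

open Scheme.Modules (pushforward pullbackPushforwardAdjunction)

variable {X X' : Scheme.{u}} {g' : X' ⟶ X} {M : X.Modules} {N : X'.Modules}
  {I : InjectiveResolution M} {J : InjectiveResolution N}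
  (θ : I.cocomplex ⟶ ((pushforward g').mapHomologicalComplex _).obj J.cocomplex)

/-- The map on cycles. -/
def αθ (n : ℕ) : I.cocomplex.cycles n ⟶ (pushforward g').obj (J.cocomplex.cycles n) :=
  cyclesMap θ n ≫ RDer.cyclesComparison (pushforward g') J.cocomplex n

theorem αθ_i (n : ℕ) :
    αθ θ n ≫ (pushforward g').map (J.cocomplex.iCycles n) = I.cocomplex.iCycles n ≫ θ.f n := by
  rw [αθ, Category.assoc, RDer.cyclesComparison_i]
  exact cyclesMap_i θ n

theorem αθ_comm₂ (n : ℕ) :
    θ.f n ≫ (pushforward g').map (J.cocomplex.toCycles n (n + 1)) =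
      I.cocomplex.toCycles n (n + 1) ≫ αθ θ (n + 1) := by
  haveI : Mono ((pushforward g').map (J.cocomplex.iCycles (n + 1))) := inferInstance
  refine (cancel_mono ((pushforward g').map (J.cocomplex.iCycles (n + 1)))).1 ?_
  refine ((Category.assoc _ _ _).trans ?_).trans (Category.assoc _ _ _).symm
  refine Eq.trans ?_ (congrArg (I.cocomplex.toCycles n (n + 1) ≫ ·) (αθ_i θ (n + 1))).symm
  refine Eq.trans ?_ (I.cocomplex.toCycles_i_assoc n (n + 1) _).symm
  refine (congrArg (θ.f n ≫ ·) (((pushforward g').map_comp _ _).symm.trans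
    (congrArg (pushforward g').map (J.cocomplex.toCycles_i n (n + 1))))).trans ?_
  exact θ.comm n (n + 1)

/-- The map of the first term to the cycles is an isomorphism. -/
theorem exists_isIso_cycles₀ {Y : Scheme.{u}} {N : Y.Modules} (I : InjectiveResolution N) :
    ∃ c : N ⟶ I.cocomplex.cycles 0, IsIso c ∧ c ≫ I.cocomplex.iCycles 0 = I.ι.f 0 := by
  refine ⟨(IsLimit.conePointUniqueUpToIso (RDer.resIsLimitKernelFork I.cocomplex I.ι)
    (I.cocomplex.cyclesIsKernel 0 1 (by simp))).hom, inferInstance, ?_⟩
  exact IsLimit.conePointUniqueUpToIso_hom_comp (RDer.resIsLimitKernelFork I.cocomplex I.ι)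
    (I.cocomplex.cyclesIsKernel 0 1 (by simp)) WalkingParallelPair.zero

theorem isIso_transpose_αθ (u₀ : M ⟶ (pushforward g').obj N)
    (hu : IsIso (((pullbackPushforwardAdjunction g').homEquiv _ _).symm u₀))
    (hθ : I.ι.f 0 ≫ θ.f 0 = u₀ ≫ (pushforward g').map (J.ι.f 0)) :
    IsIso (((pullbackPushforwardAdjunction g').homEquiv _ _).symm (αθ θ 0)) := by
  obtain ⟨c, hc, hci⟩ := exists_isIso_cycles₀ I
  obtain ⟨d, hd, hdi⟩ := exists_isIso_cycles₀ J
  have h0 : c ≫ αθ θ 0 = u₀ ≫ (pushforward g').map d := by
    haveI : Mono ((pushforward g').map (J.cocomplex.iCycles 0)) := inferInstance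
    refine (cancel_mono ((pushforward g').map (J.cocomplex.iCycles 0))).1 ?_
    refine ((Category.assoc _ _ _).trans ?_).trans (Category.assoc _ _ _).symm
    refine (congrArg (c ≫ ·) (αθ_i θ 0)).trans ?_
    refine Eq.trans ?_ (congrArg (u₀ ≫ ·) (((pushforward g').map_comp _ _).symm.trans
      (congrArg (pushforward g').map hdi))).symm
    exact (Category.assoc _ _ _).symm.trans ((congrArg (· ≫ θ.f 0) hci).trans hθ)
  have e : ((pullbackPushforwardAdjunction g').homEquiv _ _).symm (αθ θ 0) =
      (Scheme.Modules.pullback g').map (inv c) ≫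
        ((pullbackPushforwardAdjunction g').homEquiv _ _).symm u₀ ≫ d := by
    rw [← Adjunction.homEquiv_naturality_right_symm, ← Adjunction.homEquiv_naturality_left_symm, ← h0,
      IsIso.inv_hom_id_assoc]
  rw [e]
  infer_instance

/-- The comparison data of a morphism of resolutions over a presentation of the inverse image. -/
def gOfθ (u₀ : M ⟶ (pushforward g').obj N)
    (hu : IsIso (((pullbackPushforwardAdjunction g').homEquiv _ _).symm u₀))
    (hθ : I.ι.f 0 ≫ θ.f 0 = u₀ ≫ (pushforward g').map (J.ι.f 0)) : GData (resOfInj I) (resOfInj J) g' where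
  α := αθ θ
  β n := θ.f n
  comm₁ := αθ_i θ
  comm₂ := αθ_comm₂ θ
  iso₀ := isIso_transpose_αθ θ u₀ hu hθ

variable {S : Scheme.{u}} (f : X ⟶ S)

/-- Cycles of a resolution, mapped to the derived functor. -/
def toR (I : InjectiveResolution M) (q : ℕ) :
    (pushforward f).obj (I.cocomplex.cycles q) ⟶ (Coh.Rpush f q).obj M :=
  inv (RDer.cyclesComparison (pushforward f) I.cocomplex q) ≫
    (((pushforward f).mapHomologicalComplex _).obj I.cocomplex).homologyπ q ≫
    (I.isoRightDerivedObj (pushforward f) q).inv

theorem push_toCycles_toR (I : InjectiveResolution M) (n : ℕ) :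
    (pushforward f).map (I.cocomplex.toCycles n (n + 1)) ≫ toR f I (n + 1) = 0 := by
  have h := RDer.toCycles_cyclesComparison (pushforward f) I.cocomplex (n + 1)
  rw [CochainComplex.prev_nat_succ] at h
  refine (congrArg (· ≫ toR f I (n + 1)) h.symm).trans ?_
  refine (Category.assoc _ _ _).trans ?_
  refine (congrArg (_ ≫ ·) (IsIso.hom_inv_id_assoc _ _)).trans ?_
  exact (toCycles_comp_homologyπ_assoc _ _ _ _).trans zero_comp

instance epi_toR (I : InjectiveResolution M) (q : ℕ) : Epi (toR f I q) := by
  dsimp only [toR]
  infer_instance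

theorem exists_desc_toR (I : InjectiveResolution M) (n : ℕ) {T : S.Modules}
    (t : (pushforward f).obj (I.cocomplex.cycles (n + 1)) ⟶ T)
    (ht : (pushforward f).map (I.cocomplex.toCycles n (n + 1)) ≫ t = 0) :
    ∃ d, toR f I (n + 1) ≫ d = t := by
  have h := RDer.toCycles_cyclesComparison (pushforward f) I.cocomplex (n + 1)
  rw [CochainComplex.prev_nat_succ] at h
  let cC := RDer.cyclesComparison (pushforward f) I.cocomplex (n + 1)
  let K := ((pushforward f).mapHomologicalComplex (ComplexShape.up ℕ)).obj I.cocomplex
  have hz : K.toCycles n (n + 1) ≫ cC ≫ t = 0 :=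
    (Category.assoc _ _ _).symm.trans ((congrArg (· ≫ t) h).trans ht)
  refine ⟨(I.isoRightDerivedObj (pushforward f) (n + 1)).hom ≫
    (K.homologyIsCokernel n (n + 1) (CochainComplex.prev_nat_succ n)).desc (CokernelCofork.ofπ (cC ≫ t) hz), ?_⟩
  simp only [toR, Category.assoc]
  refine (congrArg (inv _ ≫ ·) ((congrArg (_ ≫ ·) (Iso.inv_hom_id_assoc _ _)).trans
    ((K.homologyIsCokernel n (n + 1) (CochainComplex.prev_nat_succ n)).fac _ WalkingParallelPair.one))).trans ?_
  exact IsIso.inv_hom_id_assoc cC t

end data

section square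

open Scheme.Modules (pushforward pullbackPushforwardAdjunction pushforwardComp pushforwardCongr)

variable {X S X' S' : Scheme.{u}} {f : X ⟶ S} {g : S' ⟶ S} {g' : X' ⟶ X} {f' : X' ⟶ S'}
  {M : X.Modules} {N : X'.Modules} {I : InjectiveResolution M} {J : InjectiveResolution N}
  (θ : I.cocomplex ⟶ ((pushforward g').mapHomologicalComplex _).obj J.cocomplex)
  (e : pushforward g' ⋙ pushforward f ≅ pushforward f' ⋙ pushforward g)

/-- The transported map of complexes. -/
abbrev φθ : ((pushforward f).mapHomologicalComplex _).obj I.cocomplex ⟶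
    ((pushforward g).mapHomologicalComplex _).obj (((pushforward f').mapHomologicalComplex _).obj J.cocomplex) :=
  ((pushforward f).mapHomologicalComplex _).map θ ≫ (NatTrans.mapHomologicalComplex e.hom _).app J.cocomplex

theorem key_cycles (q : ℕ) :
    inv (RDer.cyclesComparison (pushforward f) I.cocomplex q) ≫ cyclesMap (φθ θ e) q ≫
        RDer.cyclesComparison (pushforward g) (((pushforward f').mapHomologicalComplex _).obj J.cocomplex) q =
      ((pushforward f).map (αθ θ q) ≫ e.hom.app _) ≫
        (pushforward g).map (inv (RDer.cyclesComparison (pushforward f') J.cocomplex q)) := by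
  rw [IsIso.inv_comp_eq, Functor.map_inv, ← Category.assoc, ← Category.assoc, IsIso.eq_comp_inv]
  haveI : Mono ((pushforward g).map ((pushforward f').map (J.cocomplex.iCycles q))) := inferInstance
  refine (cancel_mono ((pushforward g).map ((pushforward f').map (J.cocomplex.iCycles q)))).1 ?_
  have h1 : RDer.cyclesComparison (pushforward f') J.cocomplex q ≫ (pushforward f').map (J.cocomplex.iCycles q) =
      (((pushforward f').mapHomologicalComplex _).obj J.cocomplex).iCycles q :=
    RDer.cyclesComparison_i (pushforward f') J.cocomplex q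
  have h2 : e.hom.app (J.cocomplex.cycles q) ≫ (pushforward g).map ((pushforward f').map (J.cocomplex.iCycles q)) =
      (pushforward f).map ((pushforward g').map (J.cocomplex.iCycles q)) ≫ e.hom.app (J.cocomplex.X q) :=
    (e.hom.naturality (J.cocomplex.iCycles q)).symm
  have h3 : (pushforward f).map (αθ θ q) ≫ (pushforward f).map ((pushforward g').map (J.cocomplex.iCycles q)) =
      (pushforward f).map (I.cocomplex.iCycles q) ≫ (pushforward f).map (θ.f q) := by
    exact ((pushforward f).map_comp _ _).symm.trans ((congrArg (pushforward f).map (αθ_i θ q)).trans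
      ((pushforward f).map_comp _ _))
  simp only [Category.assoc, ← Functor.map_comp, h1]
  erw [RDer.cyclesComparison_i (pushforward g) (((pushforward f').mapHomologicalComplex _).obj J.cocomplex) q]
  erw [cyclesMap_i (φθ θ e) q]
  erw [h2, reassoc_of% h3]
  exact (RDer.cyclesComparison_i_assoc (pushforward f) I.cocomplex q _).symm.trans
    (congrArg (RDer.cyclesComparison (pushforward f) I.cocomplex q ≫ ·) (Category.assoc _ _ _).symm)

theorem toR_homologyMap (q : ℕ) :
    toR f I q ≫ (I.isoRightDerivedObj (pushforward f) q).hom ≫ homologyMap (φθ θ e) q ≫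
        RDer.homologyComparison (pushforward g) (((pushforward f').mapHomologicalComplex _).obj J.cocomplex) q ≫
        (pushforward g).map ((J.isoRightDerivedObj (pushforward f') q).inv) =
      ((pushforward f).map (αθ θ q) ≫ e.hom.app _) ≫ (pushforward g).map (toR f' J q) := by
  have k := key_cycles θ e q
  simp only [toR, Category.assoc, Functor.map_comp]
  erw [Iso.inv_hom_id_assoc]
  erw [homologyπ_naturality_assoc]
  erw [RDer.homologyπ_homologyComparison_assoc]
  exact (reassoc_of% k) _

end square

section bcQ

open Scheme.Modules (pushforward pullbackPushforwardAdjunction pushforwardComp pushforwardCongr)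

variable {X X' : Scheme.{u}} (g' : X' ⟶ X) [PreservesFiniteLimits (Scheme.Modules.pullback g')] (M : X.Modules)

/-- The morphism of resolutions used by `CohBC.bcQ`. -/
def θQ : (injectiveResolution M).cocomplex ⟶
    ((pushforward g').mapHomologicalComplex _).obj
      (injectiveResolution ((Scheme.Modules.pullback g').obj M)).cocomplex :=
  InjectiveResolution.desc ((pullbackPushforwardAdjunction g').unit.app M)
      (injectiveResolution ((pushforward g').obj ((Scheme.Modules.pullback g').obj M))) (injectiveResolution M) ≫
    RDer.descToInjectives (𝟙 _) _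
      (injectiveResolution ((pushforward g').obj ((Scheme.Modules.pullback g').obj M))).ι _
      (RDer.mapAug (pushforward g') (injectiveResolution ((Scheme.Modules.pullback g').obj M)).ι)

theorem ι_θQ : (injectiveResolution M).ι.f 0 ≫ (θQ g' M).f 0 =
    (pullbackPushforwardAdjunction g').unit.app M ≫
      (pushforward g').map ((injectiveResolution ((Scheme.Modules.pullback g').obj M)).ι.f 0) := by
  rw [θQ, comp_f]
  refine (InjectiveResolution.desc_commutes_zero_assoc ((pullbackPushforwardAdjunction g').unit.app M) _ _ _).trans ?_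
  refine (Category.assoc _ _ _).trans ?_
  refine congrArg ((pullbackPushforwardAdjunction g').unit.app M ≫ ·) ?_
  refine (RDer.ι_descToInjectives_f_zero (𝟙 _) _ _ _ _).trans ?_
  simp [RDer.mapAug, HomologicalComplex.singleMapHomologicalComplex_inv_app_self]
  exact Category.id_comp _

variable {S S' : Scheme.{u}} (f : X ⟶ S) (g : S' ⟶ S) (f' : X' ⟶ S') (w : g' ≫ f = f' ≫ g)

theorem bcQAdj_eq (q : ℕ) :
    CohBC.bcQAdj f g f' g' w q M =
      ((injectiveResolution M).isoRightDerivedObj (pushforward f) q).hom ≫
        homologyMap (φθ (θQ g' M) (pushforwardComp g' f ≪≫ pushforwardCongr w ≪≫ (pushforwardComp f' g).symm)) q ≫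
        RDer.homologyComparison (pushforward g) (((pushforward f').mapHomologicalComplex _).obj
          (injectiveResolution ((Scheme.Modules.pullback g').obj M)).cocomplex) q ≫
        (pushforward g).map
          (((injectiveResolution ((Scheme.Modules.pullback g').obj M)).isoRightDerivedObj (pushforward f') q).inv) := by
  dsimp only [CohBC.bcQAdj, Coh.Rpush]
  rw [Functor.rightDerived_map_eq (pushforward f) q ((pullbackPushforwardAdjunction g').unit.app M) _
    (InjectiveResolution.desc_commutes ((pullbackPushforwardAdjunction g').unit.app M)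
      (injectiveResolution ((pushforward g').obj ((Scheme.Modules.pullback g').obj M))) (injectiveResolution M))]
  dsimp only [RDer.edgeIn, RDer.edgeOut, CohBC.RpushSquareIso, RDer.rightDerivedIso]
  rw [InjectiveResolution.rightDerived_app_eq _ (injectiveResolution ((Scheme.Modules.pullback g').obj M))]
  simp only [Category.assoc, Iso.inv_hom_id_assoc, φθ, θQ, Functor.map_comp, homologyMap_comp, Functor.comp_map,
    homologyFunctor_map]
  erw [Iso.inv_hom_id_assoc]
  rfl

end bcQ

section main

open Scheme.Modules (pushforward pullbackPushforwardAdjunction pushforwardComp pushforwardCongr)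

variable {X S : Scheme.{u}} (f : X ⟶ S) {M : X.Modules} (I : InjectiveResolution M) (n : ℕ)

/-- The sheaf of cocycles modulo coboundaries, mapped to the derived functor. -/
def hdirToR : hdir f (resOfInj I) n ⟶ (Coh.Rpush f (n + 1)).obj M :=
  cokernel.desc _ (toR f I (n + 1)) (push_toCycles_toR f I n)

theorem π_hdirToR : cokernel.π ((Coh.push f).map ((resOfInj I).p n)) ≫ hdirToR f I n = toR f I (n + 1) :=
  cokernel.π_desc _ _ _

instance isIso_hdirToR : IsIso (hdirToR f I n) := by
  obtain ⟨d, hd⟩ := exists_desc_toR f I n (cokernel.π ((Coh.push f).map ((resOfInj I).p n)))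
    (cokernel.condition ((Coh.push f).map ((resOfInj I).p n)))
  refine ⟨d, ?_, ?_⟩
  · rw [← cancel_epi (cokernel.π ((Coh.push f).map ((resOfInj I).p n))), ← Category.assoc, π_hdirToR,
      Category.comp_id]
    exact hd
  · rw [← cancel_epi (toR f I (n + 1)), ← Category.assoc, hd]
    exact (π_hdirToR f I n).trans (Category.comp_id _).symm

variable {X' S' : Scheme.{u}} {g : S' ⟶ S} {g' : X' ⟶ X} {f' : X' ⟶ S'} (h : IsPullback g' f' f g)

theorem isIso_bcQ_succ [Flat g] [QuasiCompact f] [QuasiSeparated f]
    [PreservesFiniteLimits (Scheme.Modules.pullback g')] (N : X.Modules) (hN : Coh.IsQCoh N) (n : ℕ) :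
    IsIso (CohBC.bcQ f g f' g' h.w (n + 1) N) := by
  haveI : Flat g' := MorphismProperty.of_isPullback (P := @Flat) h.flip inferInstance
  haveI : QuasiCompact f' := MorphismProperty.of_isPullback (P := @QuasiCompact) h inferInstance
  haveI : QuasiSeparated f' := MorphismProperty.of_isPullback (P := @QuasiSeparated) h inferInstance
  let G := gOfθ (θQ g' N) ((pullbackPushforwardAdjunction g').unit.app N) (by
    have e : ((pullbackPushforwardAdjunction g').homEquiv N _).symm
        ((pullbackPushforwardAdjunction g').unit.app N) = 𝟙 _ := by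
      rw [Equiv.symm_apply_eq, Adjunction.homEquiv_unit]
      exact ((congrArg (_ ≫ ·) ((pushforward g').map_id _)).trans (Category.comp_id _)).symm
    rw [e]
    infer_instance) (ι_θQ g' N)
  have hM0 : Coh.IsQCoh ((resOfInj (injectiveResolution N)).Z 0) := by
    obtain ⟨c, hc, -⟩ := exists_isIso_cycles₀ (injectiveResolution N)
    exact @isQuasicoherent_of_iso _ _ _ (@asIso _ _ _ _ c hc) hN
  haveI : ((resOfInj (injectiveResolution N)).Z 0).IsQuasicoherent := hM0
  have hq := isQuasicoherent_hdir f (resOfInj (injectiveResolution N)) n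
  have hiso : IsIso (((pullbackPushforwardAdjunction g).homEquiv _ _).symm (τHdir h G n)) :=
    isIso_transpose g hq (τHdir h G n) fun V V' hV hV' hle => bijective_locLin_hdir h G hM0 n hle hV hV'
  have key : hdirToR f (injectiveResolution N) n ≫ CohBC.bcQAdj f g f' g' h.w (n + 1) N =
      τHdir h G n ≫ (pushforward g).map (hdirToR f' (injectiveResolution ((Scheme.Modules.pullback g').obj N)) n) := by
    refine (cancel_epi (cokernel.π ((Coh.push f).map ((resOfInj (injectiveResolution N)).p n)))).1 ?_
    rw [← Category.assoc, π_hdirToR, bcQAdj_eq g' N f g f' h.w (n + 1)]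
    refine (toR_homologyMap (θQ g' N) _ (n + 1)).trans ?_
    refine Eq.trans ?_ ((congrArg (· ≫ (pushforward g).map (hdirToR f' _ n)) (cokernel.π_desc _ _ _)).symm.trans
      (Category.assoc _ _ _))
    exact ((congrArg (τPush h (G.α (n + 1)) ≫ ·) (((pushforward g).map_comp _ _).symm.trans
      (congrArg (pushforward g).map (π_hdirToR f' (injectiveResolution ((Scheme.Modules.pullback g').obj N)) n)))).symm.trans
      (Category.assoc _ _ _).symm)
  have key' : (Scheme.Modules.pullback g).map (hdirToR f (injectiveResolution N) n) ≫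
      CohBC.bcQ f g f' g' h.w (n + 1) N =
      ((pullbackPushforwardAdjunction g).homEquiv _ _).symm (τHdir h G n) ≫
        hdirToR f' (injectiveResolution ((Scheme.Modules.pullback g').obj N)) n := by
    rw [CohBC.bcQ, ← Adjunction.homEquiv_naturality_left_symm, key, Adjunction.homEquiv_naturality_right_symm]
  exact IsIso.of_isIso_fac_left key'

end main

end Groth.Agent.H10Coh.FBC
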