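import Groth.Agent.H10Coh.FlatBC.Algebra
import Groth.Agent.H10Coh.CohLocal
import Groth.Agent.H10Coh.Induction
import Groth.Agent.LeadFF.BaseChange
import Groth.Agent.H11Tilde.ModLoc

/-!
# Flat base change at the level of cocycles of flasque resolutions
-/

set_option autoImplicit false
set_option linter.style.haveILetI false

noncomputable section

universe u

open CategoryTheory CategoryTheory.Limits AlgebraicGeometry Opposite TopologicalSpace TensorProduct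
open Groth.Agent.H10Coh

namespace Groth.Agent.H10Coh.FBC

attribute [local instance 10000] hasSheafifyAb hasWeakSheafifyAb hasExtAb enoughInjAb

variable {A : Type u} [CommRing A] {X : Scheme.{u}} [X.Over (Spec (CommRingCat.of A))]

/-- Scalars. -/
def sc (W : X.Opens) : A →+* Γ(X, W) := LeadFF.scal (X ↘ Spec (CommRingCat.of A)) W

/-- Sections as modules over the base. -/
@[reducible] def modA (N : X.Modules) (W : X.Opens) : Module A Γ(N, W) := Module.compHom _ (sc (A := A) W)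

attribute [local instance] modA

theorem smul_def (N : X.Modules) (W : X.Opens) (a : A) (x : Γ(N, W)) : a • x = sc (A := A) W a • x := rfl

/-- Restriction. -/
def rsL (N : X.Modules) {U V : X.Opens} (h : V ≤ U) : Γ(N, U) →ₗ[A] Γ(N, V) :=
  { rs N h with
    map_smul' := fun a x => by
      show rs N h (sc (A := A) U a • x) = sc (A := A) V a • rs N h x
      refine (Scheme.Modules.map_smul N _ _ _).trans ?_
      exact congrArg (· • rs N h x) (LeadFF.map_scal (X ↘ Spec (CommRingCat.of A)) h a) }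

theorem rsL_apply (N : X.Modules) {U V : X.Opens} (h : V ≤ U) (x : Γ(N, U)) :
    rsL (A := A) N h x = rs N h x := rfl

variable (R : MRes X)

/-- The differential. -/
def pL (n : ℕ) (U : X.Opens) : Γ(R.I n, U) →ₗ[A] Γ(R.Z (n + 1), U) :=
  { pA R n U with map_smul' := fun a x => pA_smul R n U (sc (A := A) U a) x }

/-- The inclusion of cocycles. -/
def iL (n : ℕ) (U : X.Opens) : Γ(R.Z n, U) →ₗ[A] Γ(R.I n, U) :=
  { iA R n U with map_smul' := fun a x => iA_smul R n U (sc (A := A) U a) x }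

theorem iL_exact (n : ℕ) (U : X.Opens) : Function.Exact (iL (A := A) R n U) (pL (A := A) R n U) :=
  fun y => ⟨fun h => exists_iA_eq R n U y h, by rintro ⟨c, rfl⟩; exact pA_iA R n U c⟩

section bc

variable (B : Type u) [CommRing B] [Algebra A B]

/-- Coboundaries after extension of scalars. -/
def TBd : ∀ (n : ℕ) {U : X.Opens}, B ⊗[A] Γ(R.Z n, U) → Prop
  | 0, _, z => z = 0
  | n + 1, U, z => ∃ d, T B (pL (A := A) R n U) d = z

variable [Module.Flat A B]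

theorem TBd.extend (n : ℕ) {U V : X.Opens} (h : V ≤ U) {a : B ⊗[A] Γ(R.Z n, V)} (ha : TBd R B n a) :
    ∃ b : B ⊗[A] Γ(R.Z n, U), TBd R B n b ∧ T B (rsL (A := A) (R.Z n) h) b = a := by
  cases n with
  | zero => exact ⟨0, rfl, (map_zero _).trans (show a = 0 from ha).symm⟩
  | succ n =>
    obtain ⟨x, rfl⟩ := ha
    obtain ⟨y, rfl⟩ := T_surjective B (rsL (A := A) (R.I n) h) (exists_rs_eq R n h) x
    exact ⟨_, ⟨y, rfl⟩, (T_congr B (fun m => (pA_rs R n h m).symm) y)⟩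

theorem T_two (N : X.Modules) (U V : X.Opens) :
    (∀ z, T B (rsL (A := A) N (le_sup_left : U ≤ U ⊔ V)) z = 0 →
      T B (rsL (A := A) N (le_sup_right : V ≤ U ⊔ V)) z = 0 → z = 0) ∧
    ∀ (a : B ⊗[A] Γ(N, U)) (b : B ⊗[A] Γ(N, V)),
      T B (rsL (A := A) N (inf_le_left : U ⊓ V ≤ U)) a = T B (rsL (A := A) N (inf_le_right : U ⊓ V ≤ V)) b →
      ∃ z, T B (rsL (A := A) N (le_sup_left : U ≤ U ⊔ V)) z = a ∧
        T B (rsL (A := A) N (le_sup_right : V ≤ U ⊔ V)) z = b :=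
  T_glue B _ _ _ _
    (fun m h₁ h₂ => eq_of_two N le_sup_left le_sup_right le_rfl m 0 (h₁.trans (map_zero _).symm) (h₂.trans (map_zero _).symm))
    (fun m => (rs_rs N _ _ m).trans (rs_rs N _ _ m).symm)
    fun a b h => glue_two N a b h

variable {X' : Scheme.{u}} [X'.Over (Spec (CommRingCat.of B))] (q : X' ⟶ X)

/-- Comparison data between resolutions along `q`. -/
structure Data (R' : MRes X') where
  hsc : ∀ (W : X.Opens) (a : A), q.app W (sc (A := A) W a) = sc (A := B) (q ⁻¹ᵁ W) (algebraMap A B a)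
  α : ∀ n, R.Z n ⟶ (Scheme.Modules.pushforward q).obj (R'.Z n)
  β : ∀ n, R.I n ⟶ (Scheme.Modules.pushforward q).obj (R'.I n)
  comm₁ : ∀ n, α n ≫ (Scheme.Modules.pushforward q).map (R'.i n) = R.i n ≫ β n
  comm₂ : ∀ n, β n ≫ (Scheme.Modules.pushforward q).map (R'.p n) = R.p n ≫ α (n + 1)

variable {R B q} {R' : MRes X'}

omit [Module.Flat A B]

/-- A morphism to a direct image, evaluated on sections. -/
abbrev ev {N : X.Modules} {N' : X'.Modules} (φ : N ⟶ (Scheme.Modules.pushforward q).obj N') (W : X.Opens)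
    (m : Γ(N, W)) : Γ(N', q ⁻¹ᵁ W) := φ.app W m

/-- The base change map on sections induced by a morphism to a direct image. -/
def bcMap (hsc : ∀ (W : X.Opens) (a : A), q.app W (sc (A := A) W a) = sc (A := B) (q ⁻¹ᵁ W) (algebraMap A B a))
    {N : X.Modules} {N' : X'.Modules} (φ : N ⟶ (Scheme.Modules.pushforward q).obj N') (W : X.Opens) :
    B ⊗[A] Γ(N, W) →ₗ[B] Γ(N', q ⁻¹ᵁ W) :=
  letI : Module A Γ(N', q ⁻¹ᵁ W) := Module.compHom _ (algebraMap A B)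
  haveI : IsScalarTower A B Γ(N', q ⁻¹ᵁ W) := IsScalarTower.of_algebraMap_smul fun _ _ => rfl
  LinearMap.liftBaseChange B
    ({ toFun := ev φ W
       map_add' := fun a b => map_add (φ.app W).hom a b
       map_smul' := fun a m => by
         refine (φ.app_smul (sc (A := A) W a) m).trans ?_
         show q.app W (sc (A := A) W a) • ev φ W m = sc (A := B) (q ⁻¹ᵁ W) (algebraMap A B a) • ev φ W m
         rw [hsc] } :
      Γ(N, W) →ₗ[A] Γ(N', q ⁻¹ᵁ W))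

variable {hsc : ∀ (W : X.Opens) (a : A), q.app W (sc (A := A) W a) = sc (A := B) (q ⁻¹ᵁ W) (algebraMap A B a)}

theorem bcMap_tmul {N : X.Modules} {N' : X'.Modules} (φ : N ⟶ (Scheme.Modules.pushforward q).obj N')
    (W : X.Opens) (b : B) (m : Γ(N, W)) :
    bcMap hsc φ W (b ⊗ₜ m) = sc (A := B) (q ⁻¹ᵁ W) b • ev φ W m := rfl

theorem bcMap_rs {N : X.Modules} {N' : X'.Modules} (φ : N ⟶ (Scheme.Modules.pushforward q).obj N')
    {U V : X.Opens} (h : V ≤ U) (z : B ⊗[A] Γ(N, U)) :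
    bcMap hsc φ V (T B (rsL (A := A) N h) z) = rs N' (q.preimage_mono h) (bcMap hsc φ U z) := by
  induction z using TensorProduct.induction_on with
  | zero => simp only [map_zero]
  | add x y hx hy => simp only [map_add, hx, hy]
  | tmul b m =>
    rw [T_tmul, bcMap_tmul, bcMap_tmul]
    refine Eq.trans ?_ (Scheme.Modules.map_smul N' _ _ _).symm
    exact congrArg₂ (fun c (x : Γ(N', q ⁻¹ᵁ V)) => c • x)
      (LeadFF.map_scal (X' ↘ Spec (CommRingCat.of B)) (q.preimage_mono h) b).symm (H11Tilde.app_map_apply φ h m)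

theorem bcMap_comm {N₁ N₂ : X.Modules} {N₁' N₂' : X'.Modules}
    (φ₁ : N₁ ⟶ (Scheme.Modules.pushforward q).obj N₁') (φ₂ : N₂ ⟶ (Scheme.Modules.pushforward q).obj N₂')
    (g : N₁ ⟶ N₂) (g' : N₁' ⟶ N₂') (hc : φ₁ ≫ (Scheme.Modules.pushforward q).map g' = g ≫ φ₂)
    (W : X.Opens) (gL : Γ(N₁, W) →ₗ[A] Γ(N₂, W)) (hg : ∀ m, gL m = g.app W m) (z : B ⊗[A] Γ(N₁, W)) :
    bcMap hsc φ₂ W (T B gL z) = g'.app (q ⁻¹ᵁ W) (bcMap hsc φ₁ W z) := by
  induction z using TensorProduct.induction_on with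
  | zero => simp only [map_zero]
  | add x y hx hy => simp only [map_add, hx, hy]
  | tmul b m =>
    rw [T_tmul, bcMap_tmul, bcMap_tmul, hg]
    refine Eq.trans ?_ (g'.app_smul _ _).symm
    exact congrArg (fun x : Γ(N₂', q ⁻¹ᵁ W) => sc (A := B) (q ⁻¹ᵁ W) b • x)
      (congr($(congrArg (fun k => Scheme.Modules.Hom.app k W) hc) m)).symm

variable (D : Data (A := A) R B q R')

/-- `Φ` on cocycles. -/
abbrev ΦZ (n : ℕ) (W : X.Opens) : B ⊗[A] Γ(R.Z n, W) →ₗ[B] Γ(R'.Z n, q ⁻¹ᵁ W) := bcMap D.hsc (D.α n) W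

/-- `Φ` on cochains. -/
abbrev ΦI (n : ℕ) (W : X.Opens) : B ⊗[A] Γ(R.I n, W) →ₗ[B] Γ(R'.I n, q ⁻¹ᵁ W) := bcMap D.hsc (D.β n) W

theorem Φ_i (n : ℕ) (W : X.Opens) (z : B ⊗[A] Γ(R.Z n, W)) :
    ΦI D n W (T B (iL (A := A) R n W) z) = iA R' n (q ⁻¹ᵁ W) (ΦZ D n W z) :=
  bcMap_comm _ _ (R.i n) (R'.i n) (D.comm₁ n) W _ (fun _ => rfl) z

theorem Φ_p (n : ℕ) (W : X.Opens) (z : B ⊗[A] Γ(R.I n, W)) :
    ΦZ D (n + 1) W (T B (pL (A := A) R n W) z) = pA R' n (q ⁻¹ᵁ W) (ΦI D n W z) :=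
  bcMap_comm _ _ (R.p n) (R'.p n) (D.comm₂ n) W _ (fun _ => rfl) z

theorem pT_iT (n : ℕ) (U : X.Opens) (z : B ⊗[A] Γ(R.Z n, U)) :
    T B (pL (A := A) R n U) (T B (iL (A := A) R n U) z) = 0 := T_eq_zero B (f := iL (A := A) R n U) (g := pL (A := A) R n U) (fun m => pA_iA R n U m) z

theorem pT_rs (n : ℕ) {U V : X.Opens} (h : V ≤ U) (z : B ⊗[A] Γ(R.I n, U)) :
    T B (pL (A := A) R n V) (T B (rsL (A := A) (R.I n) h) z) =
      T B (rsL (A := A) (R.Z (n + 1)) h) (T B (pL (A := A) R n U) z) :=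
  T_congr B (fun m => pA_rs R n h m) z

theorem iT_rs (n : ℕ) {U V : X.Opens} (h : V ≤ U) (z : B ⊗[A] Γ(R.Z n, U)) :
    T B (iL (A := A) R n V) (T B (rsL (A := A) (R.Z n) h) z) =
      T B (rsL (A := A) (R.I n) h) (T B (iL (A := A) R n U) z) :=
  T_congr B (fun m => iA_rs R n h m) z

theorem Φ_TBd (n : ℕ) {W : X.Opens} {z : B ⊗[A] Γ(R.Z n, W)} (h : TBd R B n z) :
    Bd R' n (ΦZ D n W z) := by
  cases n with
  | zero => exact (congrArg (ΦZ D 0 W) (show z = 0 from h)).trans (map_zero _)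
  | succ n => obtain ⟨d, rfl⟩ := h; exact ⟨_, (Φ_p D n W d).symm⟩

/-- Injectivity of base change in degree `n`. -/
def InjBC (n : ℕ) (W : X.Opens) : Prop :=
  ∀ z : B ⊗[A] Γ(R.Z n, W), Bd R' n (ΦZ D n W z) → TBd R B n z

/-- Surjectivity of base change in degree `n`. -/
def SurjBC (n : ℕ) (W : X.Opens) : Prop :=
  ∀ z' : Γ(R'.Z n, q ⁻¹ᵁ W), ∃ z, Bd R' n (ΦZ D n W z - z')

variable [Module.Flat A B]

theorem injBC_sup (n : ℕ) {U V : X.Opens} (hU : InjBC D (n + 1) U) (hV : InjBC D (n + 1) V)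
    (hsU : SurjBC D n U) (hsV : SurjBC D n V) (hUV : InjBC D n (U ⊓ V)) :
    InjBC D (n + 1) (U ⊔ V) := by
  intro z hz
  obtain ⟨w, hw⟩ := hz
  have adj : ∀ {U₁ : X.Opens} (h : U₁ ≤ U ⊔ V), InjBC D (n + 1) U₁ → SurjBC D n U₁ →
      ∃ (x : B ⊗[A] Γ(R.I n, U₁)) (e : Γ(R'.Z n, q ⁻¹ᵁ U₁)),
        T B (pL (A := A) R n U₁) x = T B (rsL (A := A) (R.Z (n + 1)) h) z ∧ Bd R' n e ∧
        ΦI D n U₁ x - rs _ (q.preimage_mono h) w = iA R' n _ e := by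
    intro U₁ h hi hs
    obtain ⟨x₀, hx₀⟩ := hi (T B (rsL (A := A) (R.Z (n + 1)) h) z)
      ⟨rs _ (q.preimage_mono h) w, by rw [pA_rs, hw, ← bcMap_rs _ h]⟩
    obtain ⟨c₁, hc₁⟩ := exists_iA_eq R' n _ (ΦI D n U₁ x₀ - rs _ (q.preimage_mono h) w) (by
      rw [map_sub, ← Φ_p, hx₀, pA_rs, hw, bcMap_rs, sub_self])
    obtain ⟨c₁', hc₁'⟩ := hs c₁
    refine ⟨x₀ - T B (iL (A := A) R n U₁) c₁', -(ΦZ D n U₁ c₁' - c₁),
      by rw [map_sub, hx₀, pT_iT, sub_zero], Bd.neg R' n hc₁', ?_⟩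
    rw [map_sub, Φ_i, map_neg, map_sub, hc₁]
    abel
  obtain ⟨x, e₁, hx, he₁, hxw⟩ := adj le_sup_left hU hsU
  obtain ⟨y, e₂, hy, he₂, hyw⟩ := adj le_sup_right hV hsV
  obtain ⟨c, hc⟩ := (T_exact B _ _ (iL_exact (A := A) R n (U ⊓ V))
    (T B (rsL (A := A) (R.I n) inf_le_left) x - T B (rsL (A := A) (R.I n) inf_le_right) y)).1 (by
    rw [map_sub, pT_rs, pT_rs, hx, hy, sub_eq_zero]
    exact T_congr B (fun m => (rs_rs _ _ _ m).trans (rs_rs _ _ _ m).symm) z)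
  obtain ⟨β, hβ, hβc⟩ := TBd.extend R B n (inf_le_right : U ⊓ V ≤ V) (hUV c (by
    have h : ΦZ D n (U ⊓ V) c = rs _ (q.preimage_mono inf_le_left) e₁ - rs _ (q.preimage_mono inf_le_right) e₂ := by
      apply iA_injective R' n _
      rw [map_sub, ← Φ_i, iA_rs, iA_rs, hc, map_sub, bcMap_rs, bcMap_rs, ← hxw, ← hyw, map_sub, map_sub,
        rs_rs, rs_rs]
      abel
    rw [h, sub_eq_add_neg]
    exact Bd.add R' n (Bd.res R' n _ he₁) (Bd.neg R' n (Bd.res R' n _ he₂))))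
  obtain ⟨t, htU, htV⟩ := (T_two B (R.I n) U V).2 x (y + T B (iL (A := A) R n V) β) (by
    rw [map_add, ← iT_rs, hβc, hc]
    abel)
  refine ⟨t, sub_eq_zero.1 ((T_two B (R.Z (n + 1)) U V).1 _ ?_ ?_)⟩
  · rw [map_sub, ← pT_rs, htU, hx, sub_self]
  · rw [map_sub, ← pT_rs, htV, map_add, pT_iT, add_zero, hy, sub_self]

theorem surjBC_sup (n : ℕ) {U V : X.Opens} (hU : SurjBC D (n + 1) U) (hV : SurjBC D (n + 1) V)
    (hiUV : InjBC D (n + 1) (U ⊓ V)) (hsUV : SurjBC D n (U ⊓ V)) :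
    SurjBC D (n + 1) (U ⊔ V) := by
  intro z'
  have lU : q ⁻¹ᵁ U ≤ q ⁻¹ᵁ (U ⊔ V) := q.preimage_mono le_sup_left
  have lV : q ⁻¹ᵁ V ≤ q ⁻¹ᵁ (U ⊔ V) := q.preimage_mono le_sup_right
  have jU : q ⁻¹ᵁ (U ⊓ V) ≤ q ⁻¹ᵁ U := q.preimage_mono inf_le_left
  have jV : q ⁻¹ᵁ (U ⊓ V) ≤ q ⁻¹ᵁ V := q.preimage_mono inf_le_right
  obtain ⟨zU, wU, hwU⟩ := hU (rs _ lU z')
  obtain ⟨zV, wV, hwV⟩ := hV (rs _ lV z')
  obtain ⟨d, hd⟩ := hiUV (T B (rsL (A := A) _ inf_le_left) zU - T B (rsL (A := A) _ inf_le_right) zV)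
    ⟨rs _ jU wU - rs _ jV wV, by
      simp only [map_sub, pA_rs, bcMap_rs, hwU, hwV, rs_rs]
      abel⟩
  obtain ⟨d', hd'⟩ := T_surjective B (rsL (A := A) (R.I n) (inf_le_right : U ⊓ V ≤ V)) (exists_rs_eq R n _) d
  let wV₂ := wV + ΦI D n V d'
  let zV₂ := zV + T B (pL (A := A) R n V) d'
  have hwV₂ : pA R' n _ wV₂ = ΦZ D (n + 1) V zV₂ - rs _ lV z' := by
    simp only [wV₂, zV₂, map_add, hwV, Φ_p]
    abel
  have hz₂ : T B (rsL (A := A) _ inf_le_left) zU = T B (rsL (A := A) _ (inf_le_right : U ⊓ V ≤ V)) zV₂ := by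
    rw [map_add, ← pT_rs, hd', hd]
    abel
  obtain ⟨e, he⟩ := exists_iA_eq R' n (q ⁻¹ᵁ (U ⊓ V)) (rs _ jU wU - rs _ jV wV₂) (by
    have h2 := congrArg (ΦZ D (n + 1) (U ⊓ V)) hz₂
    rw [bcMap_rs, bcMap_rs] at h2
    simp only [map_sub, pA_rs, hwU, hwV₂, rs_rs, h2, sub_self])
  obtain ⟨e₀, hbd⟩ := hsUV e
  obtain ⟨k, hk⟩ := T_surjective B (rsL (A := A) (R.I n) (inf_le_right : U ⊓ V ≤ V)) (exists_rs_eq R n _)
    (T B (iL (A := A) R n _) e₀)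
  obtain ⟨β', -, hβ'⟩ := Bd.extend R' n jV hbd
  obtain ⟨z, hzU, hzV⟩ := (T_two B (R.Z (n + 1)) U V).2 zU (zV₂ + T B (pL (A := A) R n V) k) (by
    rw [map_add, ← pT_rs, hk, pT_iT, add_zero, hz₂])
  obtain ⟨w, hwU', hwV'⟩ := glue_two (R'.I n) wU (wV₂ + ΦI D n V k - iA R' n _ β') (by
    have hk' : rs _ jV (ΦI D n V k) = iA R' n _ (ΦZ D n _ e₀) := by rw [← bcMap_rs _ (inf_le_right : U ⊓ V ≤ V), hk, Φ_i]
    have hb : rs _ jV (iA R' n _ β') = iA R' n _ (ΦZ D n _ e₀) - (rs _ jU wU - rs _ jV wV₂) := by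
      rw [← iA_rs, hβ', map_sub, he]
    show rs _ jU wU = rs _ jV (wV₂ + ΦI D n V k - iA R' n _ β')
    rw [map_sub, map_add, hk', hb]
    abel)
  refine ⟨z, w, eq_of_two (R'.Z (n + 1)) lU lV le_rfl _ _ ?_ ?_⟩
  · refine Eq.trans (pA_rs R' n lU w).symm ?_
    rw [show rs (R'.I n) lU w = wU from hwU', hwU, map_sub, ← bcMap_rs _ (le_sup_left : U ≤ U ⊔ V), hzU]
  · refine Eq.trans (pA_rs R' n lV w).symm ?_
    rw [show rs (R'.I n) lV w = wV₂ + ΦI D n V k - iA R' n _ β' from hwV', map_sub (pA R' n _), pA_iA,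
      sub_zero, map_add, hwV₂, ← Φ_p, map_sub, ← bcMap_rs _ (le_sup_right : V ≤ U ⊔ V), hzV]
    simp only [ΦZ, ΦI, zV₂, map_add]
    abel

theorem zero_sup {U V : X.Opens} (hU : InjBC D 0 U ∧ SurjBC D 0 U) (hV : InjBC D 0 V ∧ SurjBC D 0 V) :
    InjBC D 0 (U ⊔ V) ∧ (InjBC D 0 (U ⊓ V) → SurjBC D 0 (U ⊔ V)) := by
  refine ⟨fun z hz => (T_two B (R.Z 0) U V).1 z (hU.1 _ ?_) (hV.1 _ ?_), fun hUV z' => ?_⟩
  · exact (bcMap_rs _ _ z).trans ((congrArg _ (show ΦZ D 0 _ z = 0 from hz)).trans (map_zero _))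
  · exact (bcMap_rs _ _ z).trans ((congrArg _ (show ΦZ D 0 _ z = 0 from hz)).trans (map_zero _))
  · have lU : q ⁻¹ᵁ U ≤ q ⁻¹ᵁ (U ⊔ V) := q.preimage_mono le_sup_left
    have lV : q ⁻¹ᵁ V ≤ q ⁻¹ᵁ (U ⊔ V) := q.preimage_mono le_sup_right
    obtain ⟨a, ha⟩ := hU.2 (rs _ lU z')
    obtain ⟨b, hb⟩ := hV.2 (rs _ lV z')
    have ha' := sub_eq_zero.1 (show ΦZ D 0 U a - rs _ lU z' = 0 from ha)
    have hb' := sub_eq_zero.1 (show ΦZ D 0 V b - rs _ lV z' = 0 from hb)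
    obtain ⟨z, hzU, hzV⟩ := (T_two B (R.Z 0) U V).2 a b (sub_eq_zero.1 (hUV _ (by
      show ΦZ D 0 _ _ = 0
      rw [map_sub, bcMap_rs, bcMap_rs, ha', hb', rs_rs, rs_rs, sub_self])))
    refine ⟨z, show ΦZ D 0 _ z - z' = 0 from sub_eq_zero.2 (eq_of_two (R'.Z 0) lU lV le_rfl _ _ ?_ ?_)⟩
    · rw [← bcMap_rs _ (le_sup_left : U ≤ U ⊔ V), hzU, ha']
    · rw [← bcMap_rs _ (le_sup_right : V ≤ U ⊔ V), hzV, hb']

/-- Flat base change on quasi-compact opens. -/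
theorem injBC_surjBC [QuasiSeparatedSpace X]
    (h0 : ∀ W : X.Opens, IsAffineOpen W → Function.Bijective (ΦZ D 0 W))
    (hacy : ∀ (n : ℕ) (W : X.Opens), IsAffineOpen W → Subsingleton (HnM (R.Z 0) (n + 1) W) ∧
      Subsingleton (HnM (R'.Z 0) (n + 1) (q ⁻¹ᵁ W))) (n : ℕ) :
    ∀ W : X.Opens, IsCompact (W : Set X) → InjBC D n W ∧ SurjBC D n W := by
  induction n with
  | zero =>
    intro W hW
    refine (qcqs_induction (fun W => IsCompact (W : Set X) → InjBC D 0 W ∧ SurjBC D 0 W) (fun U hU _ => ?_)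
      (fun U V hU hV pU pV pUV _ => ?_) W hW) hW
    · refine ⟨fun z hz => (h0 U hU).1 ((show ΦZ D 0 U z = 0 from hz).trans (map_zero _).symm), fun z' => ?_⟩
      obtain ⟨z, rfl⟩ := (h0 U hU).2 z'
      exact ⟨z, show _ = (0 : Γ(R'.Z 0, q ⁻¹ᵁ U)) from sub_self _⟩
    · have hc : IsCompact ((U ⊓ V : X.Opens) : Set X) :=
        QuasiSeparatedSpace.inter_isCompact U.1 V.1 U.2 hU V.2 hV.isCompact
      exact ⟨(zero_sup D (pU hU) (pV hV.isCompact)).1, (zero_sup D (pU hU) (pV hV.isCompact)).2 (pUV hc).1⟩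
  | succ n ih =>
    intro W hW
    refine (qcqs_induction (fun W => IsCompact (W : Set X) → InjBC D (n + 1) W ∧ SurjBC D (n + 1) W)
      (fun U hU _ => ?_) (fun U V hU hV pU pV pUV _ => ?_) W hW) hW
    · refine ⟨fun z _ => ?_, fun z' => ⟨0, (subsingleton_iff_Bd R' (n + 1) _).1 (hacy n U hU).2 _⟩⟩
      exact T_surjective B (pL (A := A) R n U) ((subsingleton_HnM_iff R n U).1 (hacy n U hU).1) z
    · have hc : IsCompact ((U ⊓ V : X.Opens) : Set X) :=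
        QuasiSeparatedSpace.inter_isCompact U.1 V.1 U.2 hU V.2 hV.isCompact
      exact ⟨injBC_sup D n (pU hU).1 (pV hV.isCompact).1 (ih U hU).2 (ih V hV.isCompact).2 (ih _ hc).1,
        surjBC_sup D n (pU hU).2 (pV hV.isCompact).2 (pUV hc).1 (ih _ hc).2⟩

end bc

end Groth.Agent.H10Coh.FBC
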