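import Groth.Agent.H10Coh.FlatBC.BcQ

/-!
# The edge morphism for a composite with an affine morphism
-/

set_option autoImplicit false
set_option linter.style.haveILetI false

noncomputable section

universe u

open CategoryTheory CategoryTheory.Limits AlgebraicGeometry Opposite TopologicalSpace HomologicalComplex
open Groth.Agent.H10Coh

namespace Groth.Agent.H10Coh.FBC

attribute [local instance 10000] hasSheafifyAb hasWeakSheafifyAb hasExtAb enoughInjAb
attribute [local instance] enoughInjMod

open Scheme.Modules (pushforward)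

variable {X Y Z : Scheme.{u}} (f : X ⟶ Y) (g : Y ⟶ Z) {M : X.Modules} (I : InjectiveResolution M) (n : ℕ)

theorem toCycles_cC :
    (((pushforward g).mapHomologicalComplex _).obj (((pushforward f).mapHomologicalComplex _).obj I.cocomplex)).toCycles
        n (n + 1) ≫ RDer.cyclesComparison (pushforward g) (((pushforward f).mapHomologicalComplex _).obj I.cocomplex) (n + 1) ≫
      (pushforward g).map (RDer.cyclesComparison (pushforward f) I.cocomplex (n + 1)) =
    (Coh.push g).map ((Coh.push f).map ((resOfInj I).p n)) := by
  have h1 := RDer.toCycles_cyclesComparison (pushforward g) (((pushforward f).mapHomologicalComplex _).obj I.cocomplex) (n + 1)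
  have h2 := RDer.toCycles_cyclesComparison (pushforward f) I.cocomplex (n + 1)
  rw [CochainComplex.prev_nat_succ] at h1 h2
  refine (Category.assoc _ _ _).symm.trans ((congrArg (· ≫ _) h1).trans ?_)
  exact ((pushforward g).map_comp _ _).symm.trans (congrArg (pushforward g).map h2)

theorem isIso_homologyComparison_push [QuasiCompact f] [QuasiSeparated f] [IsAffineHom g]
    [((resOfInj I).Z 0).IsQuasicoherent] :
    IsIso (RDer.homologyComparison (pushforward g) (((pushforward f).mapHomologicalComplex _).obj I.cocomplex) (n + 1) ≫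
      (pushforward g).map (I.isoRightDerivedObj (pushforward f) (n + 1)).inv) := by
  let K := ((pushforward f).mapHomologicalComplex (ComplexShape.up ℕ)).obj I.cocomplex
  let L := ((pushforward g).mapHomologicalComplex (ComplexShape.up ℕ)).obj K
  let c : L.cycles (n + 1) ⟶ (Coh.push g).obj ((Coh.push f).obj ((resOfInj I).Z (n + 1))) :=
    RDer.cyclesComparison (pushforward g) K (n + 1) ≫ (pushforward g).map (RDer.cyclesComparison (pushforward f) I.cocomplex (n + 1))
  let γ := (Coh.push g).map ((Coh.push f).map ((resOfInj I).p n))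
  have hc : L.toCycles n (n + 1) ≫ c = γ := toCycles_cC f g I n
  have hL := L.homologyIsCokernel n (n + 1) (CochainComplex.prev_nat_succ n)
  let e : L.homology (n + 1) ⟶ cokernel γ := hL.desc (CokernelCofork.ofπ (c ≫ cokernel.π γ)
    ((Category.assoc _ _ _).symm.trans ((congrArg (· ≫ cokernel.π γ) hc).trans (cokernel.condition γ))))
  have he : L.homologyπ (n + 1) ≫ e = c ≫ cokernel.π γ := hL.fac _ WalkingParallelPair.one
  haveI hcf : IsIso (RDer.cyclesComparison (pushforward f) I.cocomplex (n + 1)) := isIso_cyclesComparison _ _ _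
  haveI hcg : IsIso (RDer.cyclesComparison (pushforward g) K (n + 1)) := isIso_cyclesComparison _ _ _
  haveI : IsIso c := IsIso.comp_isIso' hcg (@Functor.map_isIso _ _ _ _ _ _ (pushforward g) _ hcf)
  have hd : γ ≫ inv c ≫ L.homologyπ (n + 1) = 0 := by
    exact (congrArg (· ≫ inv c ≫ L.homologyπ (n + 1)) hc.symm).trans ((Category.assoc _ _ _).trans
      ((congrArg (_ ≫ ·) (IsIso.hom_inv_id_assoc _ _)).trans (L.toCycles_comp_homologyπ _ _)))
  haveI : IsIso e := by
    refine ⟨cokernel.desc γ (inv c ≫ L.homologyπ (n + 1)) hd, ?_, ?_⟩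
    · rw [← cancel_epi (L.homologyπ (n + 1)), ← Category.assoc, he, Category.assoc, cokernel.π_desc,
        IsIso.hom_inv_id_assoc, Category.comp_id]
    · rw [← cancel_epi (cokernel.π γ), cokernel.π_desc_assoc, Category.assoc, he, IsIso.inv_hom_id_assoc,
        Category.comp_id]
  haveI := isIso_push_cokernel f g (resOfInj I) n
  have key : RDer.homologyComparison (pushforward g) K (n + 1) ≫
      (pushforward g).map (I.isoRightDerivedObj (pushforward f) (n + 1)).inv =
      e ≫ pushCoker f g (resOfInj I) n ≫ (Coh.push g).map (hdirToR f I n) := by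
    refine (cancel_epi (L.homologyπ (n + 1))).1 ?_
    refine (RDer.homologyπ_homologyComparison_assoc (pushforward g) K (n + 1) _).trans ?_
    refine Eq.trans ?_ ((congrArg (· ≫ _) he).symm.trans (Category.assoc _ _ _))
    refine Eq.trans ?_ (Category.assoc _ _ _).symm
    refine Eq.trans ?_ (congrArg (c ≫ ·) (π_comp_cokernelComparison_assoc _ _ _)).symm
    refine Eq.trans ?_ (congrArg (c ≫ ·) ((congrArg (Coh.push g).map (π_hdirToR f I n)).symm.trans
      ((Coh.push g).map_comp _ _)))
    refine Eq.trans ?_ (Category.assoc _ _ _).symm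
    refine congrArg (RDer.cyclesComparison (pushforward g) K (n + 1) ≫ ·) ?_
    refine ((pushforward g).map_comp _ _).symm.trans (Eq.trans (congrArg (pushforward g).map ?_) ((pushforward g).map_comp _ _))
    exact (IsIso.hom_inv_id_assoc (RDer.cyclesComparison (pushforward f) I.cocomplex (n + 1)) _).symm
  rw [key]
  infer_instance

theorem isIso_lerayEdgeOut_succ [QuasiCompact f] [QuasiSeparated f] [IsAffineHom g] (N : X.Modules)
    (hN : Coh.IsQCoh N) : IsIso (CohBC.lerayEdgeOut f g (n + 1) N) := by
  haveI : ((resOfInj (injectiveResolution N)).Z 0).IsQuasicoherent := by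
    obtain ⟨c, hc, -⟩ := exists_isIso_cycles₀ (injectiveResolution N)
    exact @isQuasicoherent_of_iso _ _ _ (@asIso _ _ _ _ c hc) hN
  haveI := isIso_homologyComparison_push f g (injectiveResolution N) n
  exact IsIso.comp_isIso' inferInstance (IsIso.comp_isIso' inferInstance this)

end Groth.Agent.H10Coh.FBC
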