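import Groth.Agent.H10Coh.FlatBC.Transpose
import Groth.Agent.H10Coh.BaseChange

/-!
# Base change over a pair of affine opens
-/

set_option autoImplicit false
set_option linter.style.haveILetI false

noncomputable section

universe u

open CategoryTheory CategoryTheory.Limits AlgebraicGeometry Opposite TopologicalSpace TensorProduct
open Groth.Agent.H10Coh

namespace Groth.Agent.H10Coh.FBC

attribute [local instance 10000] hasSheafifyAb hasWeakSheafifyAb hasExtAb enoughInjAb
attribute [local instance] modA enoughInjMod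

section cmp

variable {X Y X' Y' : Scheme.{u}} {f : X ⟶ Y} {g : Y' ⟶ Y} {f' : X' ⟶ Y'} {g' : X' ⟶ X}
  [IsOpenImmersion g] [IsOpenImmersion g'] (w : f' ≫ g = g' ≫ f)

/-- The comparison map `(f_* M)|_{Y'} ⟶ f'_*(M|_{X'})` of a commutative square. -/
def restrCmp (M : X.Modules) :
    ((Scheme.Modules.pushforward f).obj M).restrict g ⟶ (Scheme.Modules.pushforward f').obj (M.restrict g') :=
  (Scheme.Modules.restrictFunctor g).map
      ((Scheme.Modules.pushforward f).map ((Scheme.Modules.restrictAdjunction g').unit.app M) ≫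
        (Scheme.Modules.pushforwardComp g' f).hom.app _ ≫
        (Scheme.Modules.pushforwardCongr w.symm).hom.app _ ≫
        (Scheme.Modules.pushforwardComp f' g).inv.app _) ≫
    (Scheme.Modules.restrictAdjunction g).counit.app _

include w in
theorem image_preimage_le (W : Y'.Opens) : g' ''ᵁ (f' ⁻¹ᵁ W) ≤ f ⁻¹ᵁ (g ''ᵁ W) := by
  rintro x ⟨y, hy, rfl⟩
  refine ⟨f'.base y, hy, ?_⟩
  show (f' ≫ g).base y = (g' ≫ f).base y
  rw [w]

theorem restrCmp_app (M : X.Modules) (W : Y'.Opens) :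
    (restrCmp w M).app W = M.presheaf.map (homOfLE (image_preimage_le w W)).op := by
  dsimp only [restrCmp]
  rw [Scheme.Modules.Hom.comp_app, restrictFunctor_map_app, Scheme.Modules.Hom.comp_app,
    Scheme.Modules.Hom.comp_app, Scheme.Modules.Hom.comp_app, Scheme.Modules.pushforward_map_app,
    Scheme.Modules.pushforwardComp_hom_app_app, Scheme.Modules.pushforwardComp_inv_app_app,
    pushforwardCongr_hom_app_app, Scheme.Modules.restrictAdjunction_unit_app_app,
    Scheme.Modules.restrictAdjunction_counit_app_app]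
  erw [Category.comp_id]
  erw [← Functor.map_comp, ← Functor.map_comp]
  exact congrArg M.presheaf.map (Subsingleton.elim _ _)

/-- Restriction of a morphism to a direct image. -/
def locMap {N : Y.Modules} {N' : X.Modules} (φ : N ⟶ (Scheme.Modules.pushforward f).obj N') :
    N.restrict g ⟶ (Scheme.Modules.pushforward f').obj (N'.restrict g') :=
  (Scheme.Modules.restrictFunctor g).map φ ≫ restrCmp w N'

theorem locMap_app {N : Y.Modules} {N' : X.Modules} (φ : N ⟶ (Scheme.Modules.pushforward f).obj N')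
    (W : Y'.Opens) (m : Γ(N, g ''ᵁ W)) :
    (locMap w φ).app W m = rs N' (image_preimage_le w W) (φ.app (g ''ᵁ W) m) :=
  congr($(restrCmp_app w N' W) (φ.app (g ''ᵁ W) m))

theorem locMap_comm {N₁ N₂ : Y.Modules} {N₁' N₂' : X.Modules}
    {φ₁ : N₁ ⟶ (Scheme.Modules.pushforward f).obj N₁'} {φ₂ : N₂ ⟶ (Scheme.Modules.pushforward f).obj N₂'}
    {a : N₁ ⟶ N₂} {a' : N₁' ⟶ N₂'} (hc : φ₁ ≫ (Scheme.Modules.pushforward f).map a' = a ≫ φ₂) :
    locMap w φ₁ ≫ (Scheme.Modules.pushforward f').map ((Scheme.Modules.restrictFunctor g').map a') =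
      (Scheme.Modules.restrictFunctor g).map a ≫ locMap w φ₂ := by
  refine Scheme.Modules.hom_ext _ _ fun W => AddCommGrpCat.hom_ext (AddMonoidHom.ext fun m => ?_)
  show a'.app (g' ''ᵁ (f' ⁻¹ᵁ W)) ((locMap w φ₁).app W m) = (locMap w φ₂).app W (a.app (g ''ᵁ W) m)
  rw [locMap_app, locMap_app]
  exact (app_rs a' (image_preimage_le w W) _).trans
    (congrArg (rs N₂' _) (congr($(congrArg (fun k => Scheme.Modules.Hom.app k (g ''ᵁ W)) hc) m)))

end cmp

section chart

variable {X S : Scheme.{u}} (f : X ⟶ S) {V : S.Opens} (hV : IsAffineOpen V)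

/-- The structure of a scheme over the ring of an affine open. -/
@[reducible] def overV : (f ⁻¹ᵁ V).toScheme.Over (Spec (CommRingCat.of Γ(S, V))) :=
  ⟨f.resLE V (f ⁻¹ᵁ V) le_rfl ≫ hV.isoSpec.hom⟩

theorem image_le (W : (f ⁻¹ᵁ V).toScheme.Opens) : (f ⁻¹ᵁ V).ι ''ᵁ W ≤ f ⁻¹ᵁ V := by
  rintro x ⟨y, -, rfl⟩
  exact y.2

end chart

theorem scal_resLE {X S : Scheme.{u}} (f : X ⟶ S) {V : S.Opens} (hV : IsAffineOpen V) {U : X.Opens}
    (e : U ≤ f ⁻¹ᵁ V) (W : U.toScheme.Opens) (e' : U.ι ''ᵁ W ≤ f ⁻¹ᵁ V) (a : Γ(S, V)) :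
    (show Γ(X, U.ι ''ᵁ W) from LeadFF.scal (A := Γ(S, V)) (f.resLE V U e ≫ hV.isoSpec.hom) W a) =
      f.appLE V (U.ι ''ᵁ W) e' a := by
  have h := LeadFF.scal_eq_appLE (A := Γ(S, V)) (f.resLE V U e ≫ hV.isoSpec.hom) W
  refine Eq.trans (ConcreteCategory.congr_hom h a) ?_
  rw [Scheme.Hom.comp_appLE, Scheme.Hom.resLE_appLE]
  show ((Scheme.ΓSpecIso Γ(S, V)).inv ≫ hV.isoSpec.hom.appTop ≫ _) a = _
  rw [hV.isoSpec_hom_appTop]
  simp only [Category.assoc, Iso.inv_hom_id_assoc, Scheme.Opens.topIso_inv]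
  erw [Scheme.Hom.map_appLE]
  rfl

/-- Being a base change does not depend on how the structures are written. -/
theorem isBaseChange_of_eq {R S M N : Type u} [CommRing R] [CommRing S] [AddCommGroup M] [AddCommGroup N]
    (iM iM' : Module R M) (iN iN' : Module S N) (hM : iM = iM') (hN : iN = iN')
    (ρ ρ' : R →+* S) (hρ : ρ = ρ') (F F' : M → N) (hF : ∀ m, F m = F' m)
    (h : letI := iM; letI := iN; letI := ρ.toAlgebra
      letI := Module.compHom N ρ
      haveI : IsScalarTower R S N := .of_algebraMap_smul fun _ _ => rfl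
      ∃ L : M →ₗ[R] N, (∀ m, L m = F m) ∧ IsBaseChange S L) :
    letI := iM'; letI := iN'; letI := ρ'.toAlgebra
    letI := Module.compHom N ρ'
    haveI : IsScalarTower R S N := .of_algebraMap_smul fun _ _ => rfl
    ∃ L : M →ₗ[R] N, (∀ m, L m = F' m) ∧ IsBaseChange S L := by
  subst hρ hM hN
  obtain ⟨L, hL, hbc⟩ := h
  exact ⟨L, fun m => (hL m).trans (hF m), hbc⟩

/-- The module structure on sections of a restriction to an open subscheme. -/
theorem module_restrict_eq {X : Scheme.{u}} (N : X.Modules) (U : X.Opens) (W : U.toScheme.Opens) :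
    (inferInstance : Module Γ(X, U.ι ''ᵁ W) Γ(N, U.ι ''ᵁ W)) =
      (show Module Γ(X, U.ι ''ᵁ W) Γ(N, U.ι ''ᵁ W) from
        (inferInstance : Module Γ(U.toScheme, W) Γ(N.restrict U.ι, W))) := by
  refine Module.ext' _ _ fun r x => ?_
  show r • x = (U.ι.appIso W).inv r • x
  rw [Scheme.Opens.ι_appIso]
  rfl

section generic

variable {A : Type u} [CommRing A] {X : Scheme.{u}} [X.Over (Spec (CommRingCat.of A))]
variable {B : Type u} [CommRing B] [Algebra A B]
variable {X' : Scheme.{u}} [X'.Over (Spec (CommRingCat.of B))] {q : X' ⟶ X}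
  (hsq : IsPullback q (X' ↘ Spec (CommRingCat.of B)) (X ↘ Spec (CommRingCat.of A))
      (Spec.map (CommRingCat.ofHom (algebraMap A B))))

include hsq in
theorem bijective_bcMap_of_isBaseChange {N : X.Modules} {N' : X'.Modules}
    (φ : N ⟶ (Scheme.Modules.pushforward q).obj N') {U : X.Opens} (hU : IsAffineOpen U)
    (hbc : letI := (q.app U).hom.toAlgebra
      letI := Module.compHom Γ(N', q ⁻¹ᵁ U) (q.app U).hom
      haveI : IsScalarTower Γ(X, U) Γ(X', q ⁻¹ᵁ U) Γ(N', q ⁻¹ᵁ U) := .of_algebraMap_smul fun _ _ => rfl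
      ∃ L : Γ(N, U) →ₗ[Γ(X, U)] Γ(N', q ⁻¹ᵁ U), (∀ m, L m = ev φ U m) ∧ IsBaseChange Γ(X', q ⁻¹ᵁ U) L) :
    Function.Bijective (bcMap (A := A) (B := B) (fun W a => LeadFF.app_scal hsq W a) φ U) := by
  let C := Γ(X, U)
  let C' := Γ(X', q ⁻¹ᵁ U)
  let P := Γ(N', q ⁻¹ᵁ U)
  letI : Algebra A C := (sc (A := A) U).toAlgebra
  letI : Algebra B C' := (sc (A := B) (q ⁻¹ᵁ U)).toAlgebra
  letI : Algebra A C' := ((sc (A := B) (q ⁻¹ᵁ U)).comp (algebraMap A B)).toAlgebra
  haveI : IsScalarTower A B C' := .of_algebraMap_eq fun _ => rfl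
  haveI : IsScalarTower A C Γ(N, U) := .of_algebraMap_smul fun _ _ => rfl
  letI : Algebra C C' := (q.app U).hom.toAlgebra
  letI : Module C P := Module.compHom _ (q.app U).hom
  haveI : IsScalarTower C C' P := .of_algebraMap_smul fun _ _ => rfl
  haveI : IsScalarTower A C C' := .of_algebraMap_eq fun a => (LeadFF.app_scal hsq U a).symm
  haveI : Algebra.IsPushout A B C C' := by
    haveI : Algebra.IsPushout A C B C' := CommRingCat.isPushout_iff_isPushout.mp (LeadFF.isPushout_scal hsq hU)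
    exact Algebra.IsPushout.symm inferInstance
  obtain ⟨L, hL, hbc⟩ := hbc
  let e₁ : C' ⊗[C] Γ(N, U) ≃ₗ[C'] P := hbc.equiv
  let e₂ := Algebra.IsPushout.cancelBaseChangeAux A B C C' Γ(N, U)
  have he : ∀ z, bcMap (A := A) (B := B) (fun W a => LeadFF.app_scal hsq W a) φ U z = e₁ (e₂.symm z) := fun z => by
    induction z using TensorProduct.induction_on with
    | zero => rw [map_zero, map_zero, map_zero]
    | add x y hx hy => rw [map_add, map_add, map_add, hx, hy]
    | tmul b m =>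
      rw [bcMap_tmul, Algebra.IsPushout.cancelBaseChangeAux_symm_tmul, IsBaseChange.equiv_tmul]
      exact congrArg (sc (A := B) (q ⁻¹ᵁ U) b • ·) (hL m).symm
  rw [funext he]
  exact e₁.bijective.comp e₂.symm.bijective

end generic

end Groth.Agent.H10Coh.FBC
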