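import Groth.Agent.H10Coh.FlatBC.Square

/-!
# The base change maps of direct images of quasi-coherent modules
-/

set_option autoImplicit false
set_option linter.style.haveILetI false

noncomputable section

universe u

open CategoryTheory CategoryTheory.Limits AlgebraicGeometry Opposite TopologicalSpace TensorProduct
open Groth.Agent.H10Coh

namespace Groth.Agent.H10Coh.FBC

attribute [local instance 10000] hasSheafifyAb hasWeakSheafifyAb hasExtAb enoughInjAb
attribute [local instance] modA enoughInjMod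

section generic

variable {A : Type u} [CommRing A] {X : Scheme.{u}} [X.Over (Spec (CommRingCat.of A))]
variable {B : Type u} [CommRing B] [Algebra A B]
variable {X' : Scheme.{u}} [X'.Over (Spec (CommRingCat.of B))] {q : X' ⟶ X}
  {hsc : ∀ (W : X.Opens) (a : A), q.app W (sc (A := A) W a) = sc (A := B) (q ⁻¹ᵁ W) (algebraMap A B a)}

theorem bijective_liftBaseChange_of_bcMap {N : X.Modules} {N' : X'.Modules}
    (φ : N ⟶ (Scheme.Modules.pushforward q).obj N') (U : X.Opens)
    {P P' : Type u} [AddCommGroup P] [Module A P] [AddCommGroup P'] [Module B P'] [Module A P']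
    [IsScalarTower A B P']
    (πS : Γ(N, U) →ₗ[A] P) (hπS : Function.Surjective πS)
    (πT : Γ(N', q ⁻¹ᵁ U) →ₗ[B] P') (hπT : Function.Surjective πT)
    (L : P →ₗ[A] P') (hL : ∀ m, L (πS m) = πT (ev φ U m))
    (hs : ∀ z', ∃ z, πT (bcMap hsc φ U z - z') = 0)
    (hi : ∀ z, πT (bcMap hsc φ U z) = 0 → T B πS z = 0) :
    Function.Bijective (LinearMap.liftBaseChange B L) := by
  have he : ∀ z, LinearMap.liftBaseChange B L (T B πS z) = πT (bcMap hsc φ U z) := fun z => by
    induction z using TensorProduct.induction_on with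
    | zero => simp only [map_zero]
    | add x y hx hy => simp only [map_add, hx, hy]
    | tmul b m =>
      rw [T_tmul, LinearMap.liftBaseChange_tmul, hL, bcMap_tmul]
      exact (map_smul πT b _).symm
  refine ⟨(injective_iff_map_eq_zero _).2 fun x hx => ?_, fun y => ?_⟩
  · obtain ⟨z, rfl⟩ := T_surjective B πS hπS x
    exact hi z ((he z).symm.trans hx)
  · obtain ⟨z', rfl⟩ := hπT y
    obtain ⟨z, hz⟩ := hs z'
    exact ⟨T B πS z, (he z).trans (sub_eq_zero.1 ((map_sub πT _ _).symm.trans hz))⟩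

end generic

section fromSect

variable {X S : Scheme.{u}} (f : X ⟶ S) {V : S.Opens} (hV : IsAffineOpen V)

/-- Sections over the chart as sections of the direct image. -/
def fromSect (N : X.Modules) (W : (f ⁻¹ᵁ V).toScheme.Opens) (hW : (f ⁻¹ᵁ V).ι ''ᵁ W = f ⁻¹ᵁ V) :
    letI := overV f hV
    Γ(N.restrict (f ⁻¹ᵁ V).ι, W) →ₗ[Γ(S, V)] Γ((Scheme.Modules.pushforward f).obj N, V) :=
  letI := overV f hV
  { toFun := fun m => rs N hW.ge (show Γ(N, (f ⁻¹ᵁ V).ι ''ᵁ W) from m)
    map_add' := fun a b => map_add (rs N hW.ge) a b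
    map_smul' := fun a m => by
      show rs N hW.ge (((f ⁻¹ᵁ V).ι.appIso W).inv (sc (A := Γ(S, V)) W a) • (show Γ(N, (f ⁻¹ᵁ V).ι ''ᵁ W) from m)) =
        f.app V a • rs N hW.ge (show Γ(N, (f ⁻¹ᵁ V).ι ''ᵁ W) from m)
      refine (Scheme.Modules.map_smul N _ _ _).trans ?_
      refine congrArg (· • rs N hW.ge (show Γ(N, (f ⁻¹ᵁ V).ι ''ᵁ W) from m)) ?_
      rw [Scheme.Opens.ι_appIso]
      refine (congrArg (X.presheaf.map (homOfLE hW.ge).op)
        (scal_resLE f hV le_rfl W hW.le a)).trans ?_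
      rw [Scheme.Hom.app_eq_appLE, ← Scheme.Hom.appLE_map f hW.le (homOfLE hW.ge).op]
      rfl }

theorem fromSect_bijective (N : X.Modules) (W : (f ⁻¹ᵁ V).toScheme.Opens)
    (hW : (f ⁻¹ᵁ V).ι ''ᵁ W = f ⁻¹ᵁ V) : Function.Bijective (fromSect f hV N W hW) :=
  ⟨fun a b hab => by
    have := congrArg (rs N hW.le) hab
    exact (((rs_rs N _ _ _).trans (rs_self N _ _)).symm.trans this).trans ((rs_rs N _ _ _).trans (rs_self N _ _)),
  fun y => ⟨rs N hW.le y, (rs_rs N _ _ _).trans (rs_self N _ _)⟩⟩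

end fromSect

variable {X S X' S' : Scheme.{u}} {f : X ⟶ S} {g : S' ⟶ S} {g' : X' ⟶ X} {f' : X' ⟶ S'}
  (h : IsPullback g' f' f g)

/-- The transpose of the base change map in degree zero, for a morphism `N ⟶ g'_* N'`. -/
def τPush {N : X.Modules} {N' : X'.Modules} (φ : N ⟶ (Scheme.Modules.pushforward g').obj N') :
    (Scheme.Modules.pushforward f).obj N ⟶
      (Scheme.Modules.pushforward g).obj ((Scheme.Modules.pushforward f').obj N') :=
  (Scheme.Modules.pushforward f).map φ ≫ (Scheme.Modules.pushforwardComp g' f ≪≫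
    Scheme.Modules.pushforwardCongr h.w ≪≫ (Scheme.Modules.pushforwardComp f' g).symm).hom.app N'

include h in
theorem preimage_swap (V : S.Opens) : f' ⁻¹ᵁ (g ⁻¹ᵁ V) = g' ⁻¹ᵁ (f ⁻¹ᵁ V) :=
  show (f' ≫ g) ⁻¹ᵁ V = (g' ≫ f) ⁻¹ᵁ V by rw [h.w]

theorem τPush_app {N : X.Modules} {N' : X'.Modules} (φ : N ⟶ (Scheme.Modules.pushforward g').obj N')
    (V : S.Opens) (m : Γ((Scheme.Modules.pushforward f).obj N, V)) :
    (τPush h φ).app V m = rs N' (preimage_swap h V).le (φ.app (f ⁻¹ᵁ V) m) := by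
  dsimp only [τPush]
  simp only [Iso.trans_hom, NatTrans.comp_app, Iso.symm_hom, Scheme.Modules.Hom.comp_app,
    Scheme.Modules.pushforwardComp_hom_app_app, Scheme.Modules.pushforwardComp_inv_app_app,
    pushforwardCongr_hom_app_app, Scheme.Modules.pushforward_map_app]
  rfl

variable {V : S.Opens} {V' : S'.Opens}

/-- The sections of `φ` over the chart agree with the transpose. -/
theorem locLin_fromSect (hle : V' ≤ g ⁻¹ᵁ V) (hV : IsAffineOpen V) (hV' : IsAffineOpen V')
    {N : X.Modules} {N' : X'.Modules} (φ : N ⟶ (Scheme.Modules.pushforward g').obj N')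
    (W : (f ⁻¹ᵁ V).toScheme.Opens) (hW : (f ⁻¹ᵁ V).ι ''ᵁ W = f ⁻¹ᵁ V)
    (hW' : (f' ⁻¹ᵁ V').ι ''ᵁ ((qLoc h hle) ⁻¹ᵁ W) = f' ⁻¹ᵁ V') (m : Γ(N.restrict (f ⁻¹ᵁ V).ι, W)) :
    locLin g (τPush h φ) hle (fromSect f hV N W hW m) =
      fromSect f' hV' N' _ hW' (ev (locMap (qLoc_w h hle) φ) W m) := by
  show rs ((Scheme.Modules.pushforward f').obj N') hle ((τPush h φ).app V (rs N hW.ge (show Γ(N, (f ⁻¹ᵁ V).ι ''ᵁ W) from m))) =
    rs N' hW'.ge ((locMap (qLoc_w h hle) φ).app W m)
  rw [τPush_app, locMap_app]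
  refine Eq.trans (congrArg (fun x => rs N' ((Opens.map f'.base).monotone hle) (rs N' (preimage_swap h V).le x))
    (app_rs φ hW.ge _)) ?_
  show rs N' _ (rs N' _ (rs N' (g'.preimage_mono hW.ge) _)) = _
  simp only [rs_rs]

theorem image_ι_top (U : X.Opens) : U.ι ''ᵁ ⊤ = U := by
  rw [Scheme.Hom.image_top_eq_opensRange, Scheme.Opens.opensRange_ι]

theorem image_qLoc_top (hle : V' ≤ g ⁻¹ᵁ V) :
    (f' ⁻¹ᵁ V').ι ''ᵁ ((qLoc h hle) ⁻¹ᵁ ⊤) = f' ⁻¹ᵁ V' := by
  rw [Scheme.Hom.preimage_top, image_ι_top]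

/-- Affine morphisms: bijectivity on affine opens of the bases. -/
theorem bijective_locLin_of_isAffineHom [IsAffineHom f] {M : X.Modules} (hM : Coh.IsQCoh M)
    (hV : IsAffineOpen V) (hV' : IsAffineOpen V') (hle : V' ≤ g ⁻¹ᵁ V) :
    letI := (g.appLE V V' hle).hom.toAlgebra
    letI := Module.compHom Γ((Scheme.Modules.pushforward f').obj ((Scheme.Modules.pullback g').obj M), V')
      (g.appLE V V' hle).hom
    haveI : IsScalarTower Γ(S, V) Γ(S', V')
        Γ((Scheme.Modules.pushforward f').obj ((Scheme.Modules.pullback g').obj M), V') :=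
      .of_algebraMap_smul fun _ _ => rfl
    Function.Bijective (LinearMap.liftBaseChange Γ(S', V')
      (locLin g (τPush h ((Scheme.Modules.pullbackPushforwardAdjunction g').unit.app M)) hle)) := by
  letI := (g.appLE V V' hle).hom.toAlgebra
  letI := Module.compHom Γ((Scheme.Modules.pushforward f').obj ((Scheme.Modules.pullback g').obj M), V')
    (g.appLE V V' hle).hom
  haveI : IsScalarTower Γ(S, V) Γ(S', V')
      Γ((Scheme.Modules.pushforward f').obj ((Scheme.Modules.pullback g').obj M), V') :=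
    .of_algebraMap_smul fun _ _ => rfl
  letI := overV f hV
  letI := overV f' hV'
  haveI : IsAffine (f ⁻¹ᵁ V).toScheme := hV.preimage f
  have hb := bijective_loc h hle hM (Iso.refl _) ((Scheme.Modules.pullbackPushforwardAdjunction g').unit.app M)
    ((congrArg (_ ≫ ·) ((Scheme.Modules.pushforward g').map_id _)).trans (Category.comp_id _)).symm
    hV hV' (isAffineOpen_top (f ⁻¹ᵁ V).toScheme)
  have hT := fromSect_bijective f' hV' ((Scheme.Modules.pullback g').obj M) _ (image_qLoc_top h hle)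
  refine bijective_liftBaseChange_of_bcMap (hsc := qLoc_sc h hle hV hV')
    (locMap (qLoc_w h hle) ((Scheme.Modules.pullbackPushforwardAdjunction g').unit.app M)) ⊤
    (fromSect f hV M ⊤ (image_ι_top _)) (fromSect_bijective f hV M ⊤ _).2
    (fromSect f' hV' _ _ (image_qLoc_top h hle)) hT.2
    _ (fun m => locLin_fromSect h hle hV hV' _ ⊤ _ _ m) (fun z' => ?_) (fun z hz => ?_)
  · obtain ⟨z, rfl⟩ := hb.2 z'
    exact ⟨z, by rw [sub_self, map_zero]⟩
  · rw [hb.1 ((hT.1 (hz.trans (map_zero _).symm)).trans (map_zero _).symm), map_zero]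

end Groth.Agent.H10Coh.FBC
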