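import Groth.Agent.H10Coh.FlatBC.Loc

/-!
# A cartesian square over a pair of affine opens of the bases
-/

set_option autoImplicit false
set_option linter.style.haveILetI false

noncomputable section

universe u

open CategoryTheory CategoryTheory.Limits AlgebraicGeometry Opposite TopologicalSpace TensorProduct
open Groth.Agent.H10Coh

namespace Groth.Agent.H10Coh.FBC

attribute [local instance 10000] hasSheafifyAb hasWeakSheafifyAb hasExtAb enoughInjAb
attribute [local instance] modA enoughInjMod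

variable {X S X' S' : Scheme.{u}} {f : X ⟶ S} {g : S' ⟶ S} {g' : X' ⟶ X} {f' : X' ⟶ S'}
  (h : IsPullback g' f' f g) {V : S.Opens} {V' : S'.Opens} (hle : V' ≤ g ⁻¹ᵁ V)

include h hle in
theorem preimage_le_preimage : f' ⁻¹ᵁ V' ≤ g' ⁻¹ᵁ (f ⁻¹ᵁ V) := by
  intro y hy
  show (g' ≫ f).base y ∈ V
  rw [h.w]
  exact hle hy

/-- The projection between the preimages. -/
abbrev qLoc : (f' ⁻¹ᵁ V').toScheme ⟶ (f ⁻¹ᵁ V).toScheme :=
  g'.resLE (f ⁻¹ᵁ V) (f' ⁻¹ᵁ V') (preimage_le_preimage h hle)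

theorem qLoc_w : qLoc h hle ≫ (f ⁻¹ᵁ V).ι = (f' ⁻¹ᵁ V').ι ≫ g' := Scheme.Hom.resLE_comp_ι _ _

theorem isPullback_qLoc (hV : IsAffineOpen V) (hV' : IsAffineOpen V') :
    letI := (g.appLE V V' hle).hom.toAlgebra
    letI := overV f hV
    letI := overV f' hV'
    IsPullback (qLoc h hle) ((f' ⁻¹ᵁ V').toScheme ↘ Spec (CommRingCat.of Γ(S', V')))
      ((f ⁻¹ᵁ V).toScheme ↘ Spec (CommRingCat.of Γ(S, V)))
      (Spec.map (CommRingCat.ofHom (algebraMap Γ(S, V) Γ(S', V')))) := by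
  refine IsPullback.of_iso (Scheme.Hom.isPullback_resLE h hle (le_refl (f ⁻¹ᵁ V))
    (UY := f' ⁻¹ᵁ V') (inf_eq_right.2 (preimage_le_preimage h hle)).symm)
    (Iso.refl _) (Iso.refl _) hV'.isoSpec hV.isoSpec ?_ ?_ ?_ ?_
  · rw [Iso.refl_hom, Iso.refl_hom, Category.comp_id, Category.id_comp]
  · exact (Category.id_comp _).symm
  · exact (Category.id_comp _).symm
  · show g.resLE V V' hle ≫ hV.isoSpec.hom = hV'.isoSpec.hom ≫ Spec.map (g.appLE V V' hle)
    simp [IsAffineOpen.isoSpec_hom]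

theorem qLoc_sc (hV : IsAffineOpen V) (hV' : IsAffineOpen V') (W : (f ⁻¹ᵁ V).toScheme.Opens) (a : Γ(S, V)) :
    letI := (g.appLE V V' hle).hom.toAlgebra
    letI := overV f hV
    letI := overV f' hV'
    (qLoc h hle).app W (sc (A := Γ(S, V)) W a) =
      sc (A := Γ(S', V')) ((qLoc h hle) ⁻¹ᵁ W) (algebraMap Γ(S, V) Γ(S', V') a) :=
  letI := (g.appLE V V' hle).hom.toAlgebra
  letI := overV f hV
  letI := overV f' hV'
  LeadFF.app_scal (isPullback_qLoc h hle hV hV') W a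

section affine

/-- A morphism `N ⟶ g'_* N'` presenting `N'` as the inverse image of `N`. -/
theorem bijective_loc {M : X.Modules} (hM : Coh.IsQCoh M) {N' : X'.Modules}
    (e : (Scheme.Modules.pullback g').obj M ≅ N')
    (φ : M ⟶ (Scheme.Modules.pushforward g').obj N')
    (hφ : φ = (Scheme.Modules.pullbackPushforwardAdjunction g').unit.app M ≫
      (Scheme.Modules.pushforward g').map e.hom)
    (hV : IsAffineOpen V) (hV' : IsAffineOpen V') {W : (f ⁻¹ᵁ V).toScheme.Opens} (hW : IsAffineOpen W) :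
    letI := (g.appLE V V' hle).hom.toAlgebra
    letI := overV f hV
    letI := overV f' hV'
    Function.Bijective (bcMap (A := Γ(S, V)) (B := Γ(S', V')) (qLoc_sc h hle hV hV')
      (locMap (qLoc_w h hle) φ) W) := by
  letI := (g.appLE V V' hle).hom.toAlgebra
  letI := overV f hV
  letI := overV f' hV'
  haveI := LeadFF.isAffineHom_fst (isPullback_qLoc h hle hV hV')
  refine bijective_bcMap_of_isBaseChange (isPullback_qLoc h hle hV hV') _ hW ?_
  let W₀ := (f ⁻¹ᵁ V).ι ''ᵁ W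
  let W₁ := (f' ⁻¹ᵁ V').ι ''ᵁ ((qLoc h hle) ⁻¹ᵁ W)
  have hW₁ : W₁ ≤ g' ⁻¹ᵁ W₀ := image_preimage_le (qLoc_w h hle) W
  have hq : (qLoc h hle).app W = g'.appLE W₀ W₁ hW₁ :=
    (Scheme.Hom.app_eq_appLE (qLoc h hle)).trans (Scheme.Hom.resLE_appLE _ _ _ _ _)
  refine isBaseChange_of_eq inferInstance _ inferInstance _ (module_restrict_eq M (f ⁻¹ᵁ V) W) (module_restrict_eq N' (f' ⁻¹ᵁ V') ((qLoc h hle) ⁻¹ᵁ W)) (g'.appLE W₀ W₁ hW₁).hom ((qLoc h hle).app W).hom (congrArg CommRingCat.Hom.hom hq.symm)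
    (fun m => e.hom.app W₁ (H8Props.PullSections.pullLin g' M hW₁ m)) (ev (locMap (qLoc_w h hle) φ) W) (fun m => ?_) ?_
  · refine Eq.trans ?_ (locMap_app (qLoc_w h hle) φ W m).symm
    rw [hφ]
    exact app_rs e.hom hW₁ (OmegaSh.pullSect g' M W₀ m)
  · letI := (g'.appLE W₀ W₁ hW₁).hom.toAlgebra
    letI := Module.compHom Γ((Scheme.Modules.pullback g').obj M, W₁) (g'.appLE W₀ W₁ hW₁).hom
    letI := Module.compHom Γ(N', W₁) (g'.appLE W₀ W₁ hW₁).hom
    haveI : IsScalarTower Γ(X, W₀) Γ(X', W₁) Γ((Scheme.Modules.pullback g').obj M, W₁) :=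
      .of_algebraMap_smul fun _ _ => rfl
    haveI : IsScalarTower Γ(X, W₀) Γ(X', W₁) Γ(N', W₁) := .of_algebraMap_smul fun _ _ => rfl
    let eL : Γ((Scheme.Modules.pullback g').obj M, W₁) ≃ₗ[Γ(X', W₁)] Γ(N', W₁) :=
      { toFun := fun x => e.hom.app W₁ x
        invFun := fun x => e.inv.app W₁ x
        map_add' := fun a b => map_add (e.hom.app W₁).hom a b
        map_smul' := fun r x => e.hom.app_smul r x
        left_inv := fun x => congr($(congrArg (fun k => Scheme.Modules.Hom.app k W₁) e.hom_inv_id) x)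
        right_inv := fun x => congr($(congrArg (fun k => Scheme.Modules.Hom.app k W₁) e.inv_hom_id) x) }
    exact ⟨(eL.toLinearMap.restrictScalars Γ(X, W₀)).comp (H8Props.PullSections.pullLin g' M hW₁),
      fun _ => rfl,
      IsBaseChange.of_equiv ((H8Props.PullSections.isBaseChange_pullLin g' M hW₁ hM (hW.image_of_isOpenImmersion _) ((hW.preimage (qLoc h hle)).image_of_isOpenImmersion _)).equiv ≪≫ₗ eL) fun m => congrArg eL (IsBaseChange.equiv_tmul _ 1 m |>.trans (one_smul _ _))⟩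

end affine

end Groth.Agent.H10Coh.FBC
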